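import Cfsg.Agent.Lib.Recog.LThreeThree5616.Centralizer
import Cfsg.Agent.Lib.Blocks.GLTwoThreeCentralizer.Main
import Cfsg.Agent.Lib.Blocks.GLTwoThreeCentralizer.Points

/-!
# The simple groups of order 5616 are isomorphic
-/

set_option autoImplicit false

namespace CfsgLib.Recog.LThreeThree5616

open Cfsg

/-- A simple group of order 5616 is `PSL(3,3)`. -/
theorem nonempty_mulEquiv_psl {G : Type*} [Group G] [Finite G] [IsSimpleGroup G]
    (hN : Nat.card G = 5616) :
    Nonempty (G ≃* Matrix.ProjectiveSpecialLinearGroup (Fin 3) (ZMod 3)) := by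
  have := Fintype.ofFinite G
  obtain ⟨P₀, A₀, B, Y, K⟩ := exists_block hN
  obtain ⟨t, ht⟩ := exists_prime_orderOf_dvd_card' (G := G) 2 (by rw [hN]; norm_num)
  obtain ⟨e⟩ := nonempty_centralizer K ht
  obtain ⟨A, P, u, h9, hu, ho, hAP, hPu, hNP, hH, htr⟩ :=
    CfsgLib.Blocks.GLTwoThreeCentralizer.exists_nine e ht hN
  have D : CfsgLib.Blocks.GLTwoThreeCentralizer.NineData A P u :=
    ⟨hN, h9, hu, ho, hAP, hPu, hNP, hH, htr⟩
  have : Fact (Nat.Prime 3) := ⟨Nat.prime_three⟩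
  exact D.nonempty_iso

/-- Two simple groups of order 5616 are isomorphic. -/
theorem nonempty_mulEquiv {G S : Type*} [Group G] [Finite G] [IsSimpleGroup G] [Group S] [Finite S]
    [IsSimpleGroup S] (hG : Nat.card G = 5616) (hS : Nat.card S = 5616) : Nonempty (G ≃* S) := by
  obtain ⟨e⟩ := nonempty_mulEquiv_psl hG
  obtain ⟨f⟩ := nonempty_mulEquiv_psl hS
  exact ⟨e.trans f.symm⟩

end CfsgLib.Recog.LThreeThree5616
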