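import Cfsg.Agent.Lib.Recog.LThreeThree5616.Chars
import Cfsg.Agent.Lib.Char.Burnside
import Cfsg.Agent.S3304
import Cfsg.Agent.S0201

/-!
# The involution centralizer in a simple group of order 5616

It has order `48`, no normal subgroup of order three, and a self-centralizing element of order six,
so that it is isomorphic to `GL(2,3)`.
-/

set_option autoImplicit false

namespace CfsgLib.Recog.LThreeThree5616

open Cfsg CfsgLib.Char CfsgLib.Blocks CfsgLib.Perm Subgroup
open scoped commutatorElement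

section General

variable {G : Type*} [Group G] [Finite G]

/-- Fixed points of a `p`-element on a subgroup which it normalizes. -/
theorem card_inf_centralizer_modEq {p : ℕ} [Fact p.Prime] (W : Subgroup G) {x : G}
    (hx : ∀ w ∈ W, x * w * x⁻¹ ∈ W) (hp : IsPGroup p (zpowers x)) :
    Nat.card W ≡ Nat.card (W ⊓ centralizer ({x} : Set G) : Subgroup G) [MOD p] := by
  have hxN : x ∈ normalizer (W : Set G) :=
    mem_normalizer_fintype (S := (W : Set G)) (fun w hw => hx w hw)
  have hle : zpowers x ≤ normalizer (W : Set G) := by rwa [zpowers_le]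
  let φ : zpowers x →* MulAut W := (normalizerMonoidHom W).comp (inclusion hle)
  letI : MulAction (zpowers x) W := MulAction.compHom W φ
  have hsmul : ∀ (z : zpowers x) (w : W), ((z • w : W) : G) = z * w * (z : G)⁻¹ := fun z w => rfl
  refine (hp.card_modEq_card_fixedPoints W).trans ?_
  have e : MulAction.fixedPoints (zpowers x) W ≃ (W ⊓ centralizer ({x} : Set G) : Subgroup G) :=
    { toFun := fun w => ⟨((w : W) : G), (w : W).2, by
        refine mem_centralizer_singleton_iff.2 ?_
        have h := congrArg (fun y : W => (y : G)) (w.2 ⟨x, mem_zpowers x⟩)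
        simp only [hsmul] at h
        conv_lhs => rw [← h]
        group⟩
      invFun := fun w => ⟨⟨(w : G), w.2.1⟩, fun z => by
        apply Subtype.ext
        rw [hsmul]
        have hc : Commute (w : G) x := mem_centralizer_singleton_iff.1 w.2.2
        obtain ⟨k, hk⟩ := mem_zpowers_iff.1 z.2
        rw [← hk, ← (hc.zpow_right k).eq, mul_inv_cancel_right]⟩
      left_inv := fun w => by ext; rfl
      right_inv := fun w => by ext; rfl }
  rw [Nat.card_congr e]

omit [Finite G] in
theorem isPGroup_zpowers {p k : ℕ} [Fact p.Prime] {x : G} (hx : orderOf x = p ^ k) :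
    IsPGroup p (zpowers x) :=
  IsPGroup.of_card (n := k) (by rw [Nat.card_zpowers, hx])

omit [Finite G] in
theorem conj_inv_pow {g v : G} (hg : g * v * g⁻¹ = v⁻¹) :
    ∀ n : ℕ, Odd n → g ^ n * v * (g ^ n)⁻¹ = v⁻¹ := by
  intro n hn
  obtain ⟨j, rfl⟩ := hn
  have h2 : Commute (g ^ 2) v := by
    have : g * (g * v * g⁻¹) * g⁻¹ = v := by
      rw [hg]
      calc g * v⁻¹ * g⁻¹ = (g * v * g⁻¹)⁻¹ := by group
        _ = v := by rw [hg, inv_inv]
    show g ^ 2 * v = v * g ^ 2
    rw [pow_two]
    calc g * g * v = g * (g * v * g⁻¹) * g⁻¹ * (g * g) := by group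
      _ = v * (g * g) := by rw [this]
  have hj : Commute (g ^ (2 * j)) v := by rw [pow_mul]; exact h2.pow_left j
  rw [pow_succ', mul_assoc g (g ^ (2 * j)) v, hj.eq, mul_inv_rev]
  calc g * (v * g ^ (2 * j)) * ((g ^ (2 * j))⁻¹ * g⁻¹) = g * v * g⁻¹ := by group
    _ = v⁻¹ := hg

omit [Finite G] in
theorem conj_mem_zpowers {h v : G} (hh : h * v * h⁻¹ ∈ zpowers v) :
    ∀ y ∈ zpowers v, h * y * h⁻¹ ∈ zpowers v := by
  intro y hy
  obtain ⟨k, rfl⟩ := mem_zpowers_iff.1 hy
  rw [← conj_zpow]
  exact zpow_mem hh k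

/-- In a group of order three the non-trivial elements are a generator and its inverse. -/
theorem cases_zpowers_three {v y : G} (hv : orderOf v = 3) (hy : y ∈ zpowers v) :
    y = 1 ∨ y = v ∨ y = v⁻¹ := by
  classical
  rw [mem_zpowers_iff_mem_range_orderOf, hv] at hy
  obtain ⟨k, hk, rfl⟩ := Finset.mem_image.1 hy
  have h3 : v ^ 2 = v⁻¹ := eq_inv_of_mul_eq_one_left (by rw [← pow_succ, show 2 + 1 = orderOf v by rw [hv], pow_orderOf_eq_one])
  rw [Finset.mem_range] at hk
  interval_cases k
  · exact Or.inl (pow_zero v)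
  · exact Or.inr (Or.inl (pow_one v))
  · exact Or.inr (Or.inr h3)

omit [Finite G] in
theorem zpowers_eq_of_card {p : ℕ} [Fact p.Prime] {R : Subgroup G} (hR : Nat.card R = p) {v : G}
    (hv : v ∈ R) (hv1 : v ≠ 1) : zpowers v = R := by
  haveI := Nat.finite_of_card_ne_zero (α := R) (by rw [hR]; exact (Fact.out (p := p.Prime)).ne_zero)
  refine Subgroup.eq_of_le_of_card_ge (zpowers_le.2 hv) ?_
  have h := Subgroup.orderOf_dvd_natCard R hv
  rw [hR] at h
  rcases (Nat.dvd_prime (Fact.out (p := p.Prime))).1 h with e | e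
  · exact absurd (orderOf_eq_one_iff.1 e) hv1
  · rw [Nat.card_zpowers, e, hR]

end General

variable {G : Type*} [Group G] [Fintype G] [IsSimpleGroup G]
  {P : Sylow 13 G} {A B : IrrCharacter G} {Y : Finset (IrrCharacter G)} (K : Block G P A B Y)

omit [Fintype G] [IsSimpleGroup G] in
theorem card_inf_eq (t v : G) (hv : v ∈ centralizer ({t} : Set G)) :
    Nat.card (centralizer ({(⟨v, hv⟩ : centralizer ({t} : Set G))} : Set (centralizer ({t} : Set G)))) =
      Nat.card (centralizer ({t} : Set G) ⊓ centralizer ({v} : Set G) : Subgroup G) :=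
  Nat.card_congr
    { toFun := fun x => ⟨((x : centralizer ({t} : Set G)) : G), (x : centralizer ({t} : Set G)).2, by
        have h := congrArg Subtype.val (mem_centralizer_singleton_iff.1 x.2)
        exact mem_centralizer_singleton_iff.2 h⟩
      invFun := fun x => ⟨⟨(x : G), x.2.1⟩, mem_centralizer_singleton_iff.2
        (Subtype.ext (mem_centralizer_singleton_iff.1 x.2.2))⟩
      left_inv := fun x => by ext; rfl
      right_inv := fun x => by ext; rfl }

include K

/-- An involution and a commuting element of order three. -/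
theorem card_inf_dvd {t v : G} (ht : orderOf t = 2) (hv : orderOf v = 3) (hc : Commute t v) :
    Nat.card (centralizer ({t} : Set G) ⊓ centralizer ({v} : Set G) : Subgroup G) ∣ 12 ∧
      6 ∣ Nat.card (centralizer ({t} : Set G) ⊓ centralizer ({v} : Set G) : Subgroup G) := by
  have ho : orderOf (t * v) = 6 := by
    rw [hc.orderOf_mul_eq_mul_orderOf_of_coprime (by rw [ht, hv]; norm_num), ht, hv]
  have ht2 : t ^ 2 = 1 := by rw [← ht, pow_orderOf_eq_one]
  have hv3 : v ^ 3 = 1 := by rw [← hv, pow_orderOf_eq_one]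
  have e : centralizer ({t} : Set G) ⊓ centralizer ({v} : Set G) =
      centralizer ({t * v} : Set G) := by
    ext x
    simp only [Subgroup.mem_inf, mem_centralizer_singleton_iff]
    refine ⟨fun ⟨h1, h2⟩ => (Commute.mul_right h1 h2 : Commute x (t * v)), fun h => ?_⟩
    have h' : Commute x (t * v) := h
    refine ⟨?_, ?_⟩
    · have h3 := h'.pow_right 3
      rwa [hc.mul_pow, show t ^ 3 = t by rw [pow_succ, ht2, one_mul], hv3, mul_one] at h3
    · have h4 := h'.pow_right 4
      rwa [hc.mul_pow, show t ^ 4 = 1 by rw [show (4 : ℕ) = 2 + 2 from rfl, pow_add, ht2, one_mul],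
        one_mul, show v ^ 4 = v by rw [pow_succ, hv3, one_mul]] at h4
  constructor
  · have h1 : Nat.card (centralizer ({t} : Set G) ⊓ centralizer ({v} : Set G) : Subgroup G) ∣ 468 := by
      rw [e]
      exact card_centralizer_six_dvd K (by rw [ho]; norm_num) (by rw [ho]; norm_num)
        (by rw [ho]; norm_num)
    have h2 := Subgroup.card_dvd_of_le
      (inf_le_left : centralizer ({t} : Set G) ⊓ centralizer ({v} : Set G) ≤ centralizer ({t} : Set G))
    rw [card_centralizer K ht] at h2
    have := Nat.dvd_gcd h1 h2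
    norm_num at this
    exact this
  · rw [e, ← ho]
    exact Subgroup.orderOf_dvd_natCard _ (mem_centralizer_singleton_iff.2 rfl)

/-- An element of order three with centralizer of order twelve is not inverted. -/
theorem no_invert {t v : G} (ht : orderOf t = 2) (hv : orderOf v = 3) (hc : Commute t v)
    (h12 : Nat.card (centralizer ({t} : Set G) ⊓ centralizer ({v} : Set G) : Subgroup G) = 12)
    {h : G} (hh : h ∈ centralizer ({t} : Set G)) : h * v * h⁻¹ ≠ v⁻¹ := by
  intro hinv
  haveI : Fact (Nat.Prime 3) := ⟨Nat.prime_three⟩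
  set H := centralizer ({t} : Set G) with hHdef
  have hH : Nat.card H = 48 := card_centralizer K ht
  have hvH : v ∈ H := mem_centralizer_singleton_iff.2 hc.symm.eq
  set v' : H := ⟨v, hvH⟩ with hv'def
  set h' : H := ⟨h, hh⟩
  have hv' : orderOf v' = 3 := by rw [Subgroup.orderOf_mk, hv]
  obtain ⟨R, hR⟩ := exists_mem_sylow_of_orderOf (p := 3) (k := 1) (g := v') (by rw [hv']; rfl)
  have hRc : Nat.card (R : Subgroup H) = 3 := by
    rw [sylow_card_eq R (k := 1) (m := 16) (by rw [hH]; norm_num) (by norm_num), pow_one]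
  have hv'1 : v' ≠ 1 := fun e => by rw [e, orderOf_one] at hv'; norm_num at hv'
  have hRz : zpowers v' = (R : Subgroup H) :=
    zpowers_eq_of_card hRc hR hv'1
  set N := normalizer ((R : Subgroup H) : Set H) with hN
  set C := centralizer ({v'} : Set H) with hCdef
  have hC : Nat.card C = 12 := by rw [hCdef, card_inf_eq t v hvH, h12]
  have hinv' : h' * v' * h'⁻¹ = v'⁻¹ := Subtype.ext hinv
  have hmemN : ∀ x : H, x * v' * x⁻¹ ∈ zpowers v' → x ∈ N := fun x hx =>
    mem_normalizer_fintype (S := ((R : Subgroup H) : Set H)) (fun y hy => by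
      rw [SetLike.mem_coe, ← hRz] at hy ⊢
      exact conj_mem_zpowers hx y hy)
  have hCN : C ≤ N := fun x hx => hmemN x (by
    rw [mem_centralizer_singleton_iff.1 hx, mul_inv_cancel_right]; exact mem_zpowers v')
  have hhN : h' ∈ N := hmemN h' (by rw [hinv']; exact inv_mem (mem_zpowers v'))
  have hhC : h' ∉ C := fun hx => by
    rw [mem_centralizer_singleton_iff.1 hx, mul_inv_cancel_right] at hinv'
    have : v' ^ 2 = 1 := by rw [pow_two]; nth_rw 2 [hinv']; exact mul_inv_cancel v'
    have := orderOf_dvd_of_pow_eq_one this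
    rw [hv'] at this; norm_num at this
  have hcov : (N : Set H) ⊆ (C : Set H) ∪ (fun x => x * h') '' (C : Set H) := by
    intro n hn
    have : n * v' * n⁻¹ ∈ zpowers v' := by
      rw [hRz]; exact (mem_normalizer_iff.1 hn v').1 hR
    rcases cases_zpowers_three hv' this with e | e | e
    · exfalso; exact hv'1 (by simpa using e)
    · exact Or.inl (mem_centralizer_singleton_iff.2 (by rwa [mul_inv_eq_iff_eq_mul] at e))
    · refine Or.inr ⟨n * h'⁻¹, mem_centralizer_singleton_iff.2 ?_, inv_mul_cancel_right n h'⟩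
      have h2 : h'⁻¹ * v' * h' = v'⁻¹ := by
        calc h'⁻¹ * v' * h' = h'⁻¹ * (h' * v' * h'⁻¹)⁻¹ * h' := by rw [hinv', inv_inv]
          _ = v'⁻¹ := by group
      calc n * h'⁻¹ * v' = n * (h'⁻¹ * v' * h') * h'⁻¹ := by group
        _ = (n * v' * n⁻¹)⁻¹ * (n * h'⁻¹) := by rw [h2]; group
        _ = v' * (n * h'⁻¹) := by rw [e, inv_inv]
  have hle : Nat.card N ≤ 24 := by
    have h1 := Set.ncard_le_ncard hcov (Set.toFinite _)
    have h2 := Set.ncard_union_le (C : Set H) ((fun x => x * h') '' (C : Set H))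
    have h3 := Set.ncard_image_le (f := fun x => x * h') (Set.toFinite (C : Set H))
    rw [← Nat.card_coe_set_eq (N : Set H)] at h1
    rw [← Nat.card_coe_set_eq (C : Set H)] at h2 h3
    simp only [SetLike.coe_sort_coe] at h1 h2 h3
    omega
  have h12N : 12 < Nat.card N := by
    rw [← hC]
    exact lt_of_le_of_ne (Nat.le_of_dvd Nat.card_pos (Subgroup.card_dvd_of_le hCN))
      (fun e => hhC (Subgroup.eq_of_le_of_card_ge hCN e.ge ▸ hhN))
  have hdiv := Subgroup.card_dvd_of_le hCN
  rw [hC] at hdiv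
  have hN24 : Nat.card N = 24 := by omega
  have hidx := N.card_mul_index
  rw [hN24, hH] at hidx
  have h2 : N.index = 2 := by omega
  have := card_sylow_modEq_one 3 H
  rw [Sylow.card_eq_index_normalizer R] at this
  change N.index ≡ 1 [MOD 3] at this
  rw [h2] at this
  exact absurd this (by decide)

/-- An element of order three commuting with an involution has no larger centralizer there. -/
theorem card_inf_six {t v : G} (ht : orderOf t = 2) (hv : orderOf v = 3) (hc : Commute t v) :
    Nat.card (centralizer ({t} : Set G) ⊓ centralizer ({v} : Set G) : Subgroup G) = 6 := by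
  obtain ⟨h1, h2⟩ := card_inf_dvd K ht hv hc
  have h12 : Nat.card (centralizer ({t} : Set G) ⊓ centralizer ({v} : Set G) : Subgroup G) ≤ 12 :=
    Nat.le_of_dvd (by norm_num) h1
  by_contra hne
  replace h12 : Nat.card (centralizer ({t} : Set G) ⊓ centralizer ({v} : Set G) : Subgroup G) = 12 := by
    have := Nat.card_pos (α := (centralizer ({t} : Set G) ⊓ centralizer ({v} : Set G) : Subgroup G))
    omega
  haveI : Fact (Nat.Prime 2) := ⟨Nat.prime_two⟩
  set C := centralizer ({v} : Set G) with hCdef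
  have h4 : 4 ∣ Nat.card C :=
    (show 4 ∣ 12 by norm_num).trans (h12 ▸ Subgroup.card_dvd_of_le inf_le_right)
  -- the `2`-part is four
  have h8 : ¬ 8 ∣ Nat.card C := by
    intro h8
    obtain ⟨D, hD⟩ := Sylow.exists_subgroup_card_pow_prime (G := C) 2 (n := 3) h8
    have hDp : IsPGroup 2 D := IsPGroup.of_card (n := 3) hD
    haveI : Nontrivial D := Finite.one_lt_card_iff_nontrivial.1 (by rw [hD]; norm_num)
    haveI := hDp.center_nontrivial
    obtain ⟨s, hs⟩ := exists_prime_orderOf_dvd_card' (G := center D) 2 (by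
      obtain ⟨k, hk, hk'⟩ := IsPGroup.nontrivial_iff_card (hDp.to_subgroup (center D)) |>.1 inferInstance
      rw [hk']
      exact dvd_pow_self 2 hk.ne')
    have hso : orderOf (((s : D) : C) : G) = 2 := by
      rw [Subgroup.orderOf_coe, Subgroup.orderOf_coe, Subgroup.orderOf_coe, hs]
    have hsv : Commute ((((s : D) : C) : G)) v := mem_centralizer_singleton_iff.1 ((s : D) : C).2
    have hle : D.map C.subtype ≤ centralizer ({(((s : D) : C) : G)} : Set G) ⊓ C := by
      rintro _ ⟨d, hd, rfl⟩
      refine ⟨mem_centralizer_singleton_iff.2 ?_, d.2⟩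
      have := Subgroup.mem_center_iff.1 s.2 ⟨d, hd⟩
      simpa using congrArg (fun z : D => (((z : C)) : G)) this
    have hdvd := (Subgroup.card_dvd_of_le hle).trans (card_inf_dvd K hso hv hsv).1
    rw [Subgroup.card_map_of_injective C.subtype_injective, hD] at hdvd
    norm_num at hdvd
  obtain ⟨m, hm⟩ := h4
  have hm2 : ¬ 2 ∣ m := fun e => h8 (by rw [hm]; exact Nat.mul_dvd_mul_left 4 e)
  obtain ⟨g, hg⟩ := isConj_iff.1 (isConj_inv K hv hm hm2)
  -- move the inverting element into the normalizer of a Sylow 2-subgroup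
  have hgC : ∀ x ∈ C, g * x * g⁻¹ ∈ C := fun x hx => by
    rw [mem_centralizer_singleton_iff] at hx ⊢
    have hx' : Commute x v := hx
    have h' : Commute (g * x * g⁻¹) v⁻¹ := by rw [← hg]; exact hx'.conj g
    exact (Commute.inv_right_iff.1 h').eq
  obtain ⟨W⟩ := (inferInstance : Nonempty (Sylow 2 C))
  have hW : Nat.card (W : Subgroup C) = 4 := by
    rw [sylow_card_eq W (k := 2) (m := m) (by rw [hm]; norm_num) hm2]; norm_num
  have hWg : (W : Subgroup C).map C.subtype ≤ C := Subgroup.map_subtype_le _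
  set W₀ := (W : Subgroup C).map C.subtype with hW0
  have hW0c : Nat.card W₀ = 4 := by rw [hW0, Subgroup.card_map_of_injective C.subtype_injective, hW]
  set W₁ := W₀.map (MulAut.conj g).toMonoidHom with hW1
  have hW1c : Nat.card W₁ = 4 := by
    rw [hW1, Subgroup.card_map_of_injective (MulAut.conj g).injective, hW0c]
  have hW1C : W₁ ≤ C := by
    rintro _ ⟨x, hx, rfl⟩
    exact hgC x (hWg hx)
  obtain ⟨W', hW'⟩ : ∃ W' : Sylow 2 C, (W' : Subgroup C) = W₁.subgroupOf C := by
    refine ⟨Sylow.ofCard (W₁.subgroupOf C) ?_, Sylow.coe_ofCard _ _⟩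
    rw [Nat.card_congr (Subgroup.subgroupOfEquivOfLe hW1C).toEquiv, hW1c, hm,
      Nat.factorization_mul (by norm_num) (by rintro rfl; exact hm2 (dvd_zero 2)), Finsupp.add_apply,
      Nat.factorization_eq_zero_of_not_dvd hm2, add_zero, show (4 : ℕ) = 2 ^ 2 by norm_num,
      Nat.Prime.factorization_pow Nat.prime_two, Finsupp.single_eq_same]
  obtain ⟨c, hc'⟩ := MulAction.exists_smul_eq C W' W
  set g₁ := (c : G) * g with hg1
  have hcv : Commute (c : G) v := mem_centralizer_singleton_iff.1 c.2
  have hg1v : g₁ * v * g₁⁻¹ = v⁻¹ := by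
    rw [hg1, mul_inv_rev]
    calc (c : G) * g * v * (g⁻¹ * (c : G)⁻¹) = (c : G) * (g * v * g⁻¹) * (c : G)⁻¹ := by group
      _ = v⁻¹ := by rw [hg, hcv.inv_right.eq, mul_inv_cancel_right]
  have hg1W : ∀ w ∈ W₀, g₁ * w * g₁⁻¹ ∈ W₀ := by
    intro w hw
    have h1 : g * w * g⁻¹ ∈ W₁ := ⟨w, hw, rfl⟩
    have h2 : (⟨g * w * g⁻¹, hW1C h1⟩ : C) ∈ (W' : Subgroup C) := by
      rw [hW', mem_subgroupOf]; exact h1
    have h3 : c * ⟨g * w * g⁻¹, hW1C h1⟩ * c⁻¹ ∈ (W : Subgroup C) := by
      rw [← hc', Sylow.coe_subgroup_smul, mem_smul_pointwise_iff_exists]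
      exact ⟨_, h2, rfl⟩
    refine ⟨_, h3, ?_⟩
    rw [hg1, mul_inv_rev]
    simp only [Subgroup.coe_subtype, Subgroup.coe_mul, Subgroup.coe_inv]
    group
  obtain ⟨a, n, hn, hord⟩ := Nat.exists_eq_pow_mul_and_not_dvd (orderOf_pos g₁).ne' 2 (by norm_num)
  have hnodd : Odd n := Nat.odd_iff.2 (Nat.two_dvd_ne_zero.1 hn)
  set g₂ := g₁ ^ n with hg2
  have hg2v : g₂ * v * g₂⁻¹ = v⁻¹ := conj_inv_pow hg1v n hnodd
  have hg2o : orderOf g₂ = 2 ^ a := by
    rw [hg2, orderOf_pow' _ hnodd.pos.ne', hord, Nat.gcd_mul_left_left, Nat.mul_div_cancel _ hnodd.pos]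
  have hg2W : ∀ w ∈ W₀, g₂ * w * g₂⁻¹ ∈ W₀ := by
    rw [hg2]
    clear hn hord hg2o hg2v hnodd hg2
    induction n with
    | zero => intro w hw; simpa using hw
    | succ j ih =>
      intro w hw
      rw [pow_succ', mul_inv_rev]
      have := hg1W _ (ih w hw)
      simpa [mul_assoc] using this
  have hfix := card_inf_centralizer_modEq (p := 2) W₀ hg2W (isPGroup_zpowers hg2o)
  rw [hW0c] at hfix
  have heven : 2 ∣ Nat.card (W₀ ⊓ centralizer ({g₂} : Set G) : Subgroup G) :=
    (Nat.modEq_zero_iff_dvd).1 (hfix.symm.trans (by decide))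
  obtain ⟨s, hs⟩ := exists_prime_orderOf_dvd_card' 2 heven
  have hso : orderOf (s : G) = 2 := by rw [Subgroup.orderOf_coe, hs]
  have hsC : (s : G) ∈ C := hWg s.2.1
  have hsv : Commute (s : G) v := mem_centralizer_singleton_iff.1 hsC
  obtain ⟨d1, d2⟩ := card_inf_dvd K hso hv hsv
  have hWab : ∀ w ∈ W₀, Commute w (s : G) := fun w hw => by
    haveI := IsPGroup.isMulCommutative_of_card_eq_prime_sq (p := 2) (G := W₀) (by rw [hW0c]; norm_num)
    have := IsMulCommutative.is_comm.comm (⟨w, hw⟩ : W₀) ⟨(s : G), s.2.1⟩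
    exact congrArg Subtype.val this
  have h4' : 4 ∣ Nat.card (centralizer ({(s : G)} : Set G) ⊓ C : Subgroup G) :=
    hW0c ▸ Subgroup.card_dvd_of_le (le_inf (fun w hw => mem_centralizer_singleton_iff.2 (hWab w hw).eq) hWg)
  have h12' : Nat.card (centralizer ({(s : G)} : Set G) ⊓ C : Subgroup G) = 12 :=
    Nat.dvd_antisymm d1 (by
      have := (show Nat.Coprime 4 3 by norm_num).mul_dvd_of_dvd_of_dvd h4'
        ((show 3 ∣ 6 by norm_num).trans d2)
      simpa using this)
  exact no_invert K hso hv hsv h12'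
    (mem_centralizer_singleton_iff.2 (mem_centralizer_singleton_iff.1 s.2.2).symm) hg2v

/-- No Klein four group lies in two Sylow 2-subgroups of the centralizer. -/
theorem pRankLE_inf {t : G} (ht : orderOf t = 2) (v : G) (hv : orderOf v = 3) (hc : Commute t v)
    (hnn : ∀ U : Sylow 2 (centralizer ({t} : Set G)),
      ¬ (U : Subgroup (centralizer ({t} : Set G))).Normal) :
    ∀ S T : Sylow 2 (centralizer ({t} : Set G)), S ≠ T →
      PRankLE 2 1 ((S : Subgroup (centralizer ({t} : Set G))) ⊓ T : Subgroup _) := by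
  haveI : Fact (Nat.Prime 2) := ⟨Nat.prime_two⟩
  set H := centralizer ({t} : Set G) with hHdef
  intro S T hST
  have hH : Nat.card H = 48 := card_centralizer K ht
  set Q : Subgroup H := (S : Subgroup H) ⊓ T with hQdef
  intro E _ hE
  by_contra hbig
  have hS : ∀ U : Sylow 2 H, Nat.card (U : Subgroup H) = 16 := fun U => by
    rw [sylow_card_eq U (k := 4) (m := 3) (by rw [hH]; norm_num) (by norm_num)]; norm_num
  have hne : Q ≠ (S : Subgroup H) := fun e => hST (Sylow.ext (Subgroup.eq_of_le_of_card_ge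
    (inf_eq_left.1 e) (by rw [hS S, hS T])))
  have hQ : Nat.card Q = 8 := by
    have hd : Nat.card Q ∣ 2 ^ 4 := by
      have := Subgroup.card_dvd_of_le (inf_le_left : Q ≤ (S : Subgroup H))
      rw [hS S, show (16 : ℕ) = 2 ^ 4 by norm_num] at this; exact this
    obtain ⟨j, hj, hj'⟩ := (Nat.dvd_prime_pow Nat.prime_two).1 hd
    have h1 := Subgroup.index_inf_le (H := (S : Subgroup H)) (K := (T : Subgroup H))
    have hi : ∀ U : Sylow 2 H, (U : Subgroup H).index = 3 := fun U => by
      have := (U : Subgroup H).card_mul_index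
      rw [hS U, hH] at this; omega
    rw [← hQdef, hi S, hi T] at h1
    have h2 := Q.card_mul_index
    rw [hH, hj'] at h2
    have hj4 : j ≠ 4 := fun e => hne (Subgroup.eq_of_le_of_card_ge inf_le_left (by rw [hS S, hj', e]; norm_num))
    interval_cases j <;> omega
  have hnorm : ∀ U : Sylow 2 H, Q ≤ (U : Subgroup H) → (U : Subgroup H) ≤ normalizer (Q : Set H) := by
    intro U hU
    have hi : (Q.subgroupOf (U : Subgroup H)).index = 2 := by
      have := (Q.subgroupOf (U : Subgroup H)).card_mul_index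
      rw [Nat.card_congr (Subgroup.subgroupOfEquivOfLe hU).toEquiv, hQ, hS U] at this
      omega
    haveI := Subgroup.normal_of_index_eq_two hi
    exact le_normalizer_of_normal_subgroupOf hU
  haveI hQn : Q.Normal := by
    rw [← normalizer_eq_top_iff]
    refine Subgroup.eq_top_of_card_eq _ ?_
    have h1 := hnorm S inf_le_left
    have h2 := hnorm T inf_le_right
    have d1 := Subgroup.card_dvd_of_le h1
    have d2 := Subgroup.card_subgroup_dvd_card (normalizer (Q : Set H))
    rw [hS S] at d1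
    rw [hH] at d2 ⊢
    obtain ⟨j, hj⟩ := d1
    obtain ⟨i, hi⟩ := d2
    have hj1 : j ≠ 1 := fun e => by
      rw [e, mul_one] at hj
      exact hST (Sylow.ext ((Subgroup.eq_of_le_of_card_ge h1 (by rw [hj, hS S])).trans
        (Subgroup.eq_of_le_of_card_ge h2 (by rw [hj, hS T])).symm))
    rw [hj] at hi
    have hj3 : j ∣ 3 := ⟨i, by linarith⟩
    rcases (Nat.dvd_prime Nat.prime_three).1 hj3 with e | e
    · exact absurd e hj1
    · rw [hj, e]
  -- the element of order three acts on `Q` with fixed points `⟨t⟩`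
  have hvH : v ∈ H := mem_centralizer_singleton_iff.2 hc.symm.eq
  set v' : H := ⟨v, hvH⟩
  set t' : H := ⟨t, mem_centralizer_singleton_iff.2 rfl⟩ with ht'def
  have hv' : orderOf v' = 3 := by rw [Subgroup.orderOf_mk, hv]
  have ht'o : orderOf t' = 2 := by rw [Subgroup.orderOf_mk, ht]
  have ht'c : ∀ x : H, t' * x = x * t' := fun x =>
    Subtype.ext (mem_centralizer_singleton_iff.1 x.2).symm
  have ht'U : ∀ U : Sylow 2 H, t' ∈ (U : Subgroup H) := fun U => by
    obtain ⟨U', hU'⟩ := exists_mem_sylow_of_orderOf (p := 2) (k := 1) (g := t') (by rw [ht'o]; rfl)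
    obtain ⟨c, hc'⟩ := MulAction.exists_smul_eq H U' U
    rw [← hc', Sylow.coe_subgroup_smul, mem_smul_pointwise_iff_exists]
    exact ⟨t', hU', by show c * t' * c⁻¹ = t'; rw [← ht'c c, mul_inv_cancel_right]⟩
  have ht'Q : t' ∈ Q := ⟨ht'U S, ht'U T⟩
  have hfix : ∀ x ∈ Q, x * v' = v' * x → x = 1 ∨ x = t' := by
    intro x hx hxv
    by_contra hcon
    push Not at hcon
    have h6 : Nat.card (centralizer ({v'} : Set H)) = 6 := by
      rw [card_inf_eq t v hvH, card_inf_six K ht hv hc]
    have hle : Nat.card (Q ⊓ centralizer ({v'} : Set H) : Subgroup H) ∣ 2 := by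
      have a := Subgroup.card_dvd_of_le (inf_le_left : Q ⊓ centralizer ({v'} : Set H) ≤ Q)
      have b := Subgroup.card_dvd_of_le
        (inf_le_right : Q ⊓ centralizer ({v'} : Set H) ≤ centralizer ({v'} : Set H))
      rw [hQ] at a; rw [h6] at b
      exact (Nat.dvd_gcd a b).trans (by norm_num)
    have hmemx : x ∈ Q ⊓ centralizer ({v'} : Set H) := ⟨hx, mem_centralizer_singleton_iff.2 hxv⟩
    have hmemt : t' ∈ Q ⊓ centralizer ({v'} : Set H) :=
      ⟨ht'Q, mem_centralizer_singleton_iff.2 (ht'c v')⟩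
    have h3 : 3 ≤ Nat.card (Q ⊓ centralizer ({v'} : Set H) : Subgroup H) := by
      have hsub : ({1, x, t'} : Set H) ⊆ (Q ⊓ centralizer ({v'} : Set H) : Subgroup H) := by
        rintro y (rfl | rfl | rfl)
        exacts [one_mem _, hmemx, hmemt]
      have hc3 : ({1, x, t'} : Set H).ncard = 3 := by
        have h1t : (1 : H) ≠ t' := fun e => by rw [← e, orderOf_one] at ht'o; norm_num at ht'o
        rw [Set.ncard_insert_of_notMem (by simp [Ne.symm hcon.1, h1t]) (Set.toFinite _),
          Set.ncard_pair hcon.2]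
      have := Set.ncard_le_ncard hsub (Set.toFinite _)
      rw [hc3, ← Nat.card_coe_set_eq] at this
      exact this
    have := Nat.le_of_dvd (by norm_num) hle
    omega
  -- no element moves by `t`
  have hnt : ∀ x : H, v' * x * v'⁻¹ ≠ x * t' := by
    intro x hx
    have h2 : v' ^ 2 * x * (v' ^ 2)⁻¹ = x := by
      calc v' ^ 2 * x * (v' ^ 2)⁻¹ = v' * (v' * x * v'⁻¹) * v'⁻¹ := by rw [pow_two]; group
        _ = v' * (x * t') * v'⁻¹ := by rw [hx]
        _ = (v' * x * v'⁻¹) * (v' * t' * v'⁻¹) := by group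
        _ = x * t' * t' := by rw [hx, ← ht'c v', mul_inv_cancel_right]
        _ = x := by
          rw [mul_assoc, ← pow_two]; nth_rw 1 [← ht'o]; rw [pow_orderOf_eq_one, mul_one]
    have h3 : v' ^ 3 * x * (v' ^ 3)⁻¹ = x := by
      rw [← hv', pow_orderOf_eq_one]; group
    have : v' * x * v'⁻¹ = x := by
      calc v' * x * v'⁻¹ = v' * (v' ^ 2 * x * (v' ^ 2)⁻¹) * v'⁻¹ := by rw [h2]
        _ = v' ^ 3 * x * (v' ^ 3)⁻¹ := by group
        _ = x := h3
    rw [this] at hx
    exact (fun e => by rw [e, orderOf_one] at ht'o; norm_num at ht'o : t' ≠ 1) (mul_eq_left.1 hx.symm)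
  -- `Q` has exponent two
  obtain ⟨e, heE, het⟩ : ∃ e : H, (∃ he : e ∈ Q, (⟨e, he⟩ : Q) ∈ E) ∧ e ≠ 1 ∧ e ≠ t' := by
    by_contra hcon
    push Not at hcon
    have hsub : (E : Set Q) ⊆ {1, ⟨t', ht'Q⟩} := fun x hx => by
      by_cases h1 : (x : H) = 1
      · exact Or.inl (Subtype.ext h1)
      · exact Or.inr (Subtype.ext (hcon (x : H) ⟨x.2, hx⟩ h1))
    have := Set.ncard_le_ncard hsub (Set.toFinite _)
    rw [← Nat.card_coe_set_eq] at this
    have h2 : ({1, ⟨t', ht'Q⟩} : Set Q).ncard ≤ 2 :=
      (Set.ncard_insert_le _ _).trans (by rw [Set.ncard_singleton])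
    simp only [SetLike.coe_sort_coe] at this
    omega
  obtain ⟨heQ, heE⟩ := heE
  have he2 : e * e = 1 := by
    have := congrArg Subtype.val (hE _ heE)
    simpa [pow_two] using this
  have ht2 : t' * t' = 1 := by rw [← pow_two, ← ht'o, pow_orderOf_eq_one]
  have ht1 : t' ≠ 1 := fun h => by rw [h, orderOf_one] at ht'o; norm_num at ht'o
  have het1 : e * t' ≠ 1 := fun h => het.2 (by
    rw [← mul_one e, ← ht2, ← mul_assoc, h, one_mul])
  let F : Subgroup H :=
    { carrier := {1, t', e, e * t'}
      one_mem' := Or.inl rfl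
      inv_mem' := by
        intro a ha
        have hi : a⁻¹ = a := inv_eq_of_mul_eq_one_right (by
          rcases ha with rfl | rfl | rfl | rfl
          · exact one_mul 1
          · exact ht2
          · exact he2
          · rw [mul_assoc, ← mul_assoc t', ht'c e, mul_assoc, ht2, mul_one, he2])
        rw [hi]; exact ha
      mul_mem' := by
        intro a b ha hb
        have e1 : t' * e = e * t' := ht'c e
        have e2 : t' * (e * t') = e := by rw [← mul_assoc, e1, mul_assoc, ht2, mul_one]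
        have e3 : e * (e * t') = t' := by rw [← mul_assoc, he2, one_mul]
        have e4 : e * t' * t' = e := by rw [mul_assoc, ht2, mul_one]
        have e5 : e * t' * e = t' := by rw [mul_assoc, e1, e3]
        have e6 : e * t' * (e * t') = 1 := by rw [mul_assoc, e2, he2]
        rcases ha with rfl | rfl | rfl | rfl <;> rcases hb with rfl | rfl | rfl | rfl <;>
          simp [ht2, he2, e1, e2, e3, e4, e5, e6] }
  have hFc : Nat.card F = 4 := by
    have : Nat.card F = ({1, t', e, e * t'} : Set H).ncard := Nat.card_coe_set_eq _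
    rw [this, Set.ncard_insert_of_notMem, Set.ncard_insert_of_notMem, Set.ncard_pair]
    · exact fun h => ht1 (mul_eq_left.1 h.symm)
    · simp only [Set.mem_insert_iff, Set.mem_singleton_iff, not_or]
      exact ⟨het.2.symm, fun h => het.1 (mul_eq_right.1 h.symm)⟩
    · simp only [Set.mem_insert_iff, Set.mem_singleton_iff, not_or]
      exact ⟨ht1.symm, het.1.symm, het1.symm⟩
  have hFQ : F ≤ Q := by
    intro x hx
    rcases hx with rfl | rfl | rfl | rfl
    exacts [one_mem _, ht'Q, heQ, mul_mem heQ ht'Q]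
  set f : H → H := fun x => v' * x * v'⁻¹ with hf
  have hfmul : ∀ a b, f (a * b) = f a * f b := fun a b => by simp only [hf]; group
  have hf1 : f 1 = 1 := by simp only [hf]; group
  have hft : f t' = t' := by simp only [hf]; rw [← ht'c v', mul_inv_cancel_right]
  have hfQ : ∀ x ∈ Q, f x ∈ Q := fun x hx => hQn.conj_mem x hx v'
  have hf3 : ∀ y, f (f (f y)) = y := fun y => by
    simp only [hf]
    calc v' * (v' * (v' * y * v'⁻¹) * v'⁻¹) * v'⁻¹ =
          v' * (v' * v') * y * (v' * (v' * v'))⁻¹ := by group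
      _ = y := by rw [← pow_three, ← hv', pow_orderOf_eq_one]; group
  have hfix' : ∀ x ∈ Q, f x = x → x = 1 ∨ x = t' := fun x hx h =>
    hfix x hx (mul_inv_eq_iff_eq_mul.1 h).symm
  -- the four group is moved
  have haF : f e ∉ F := by
    intro ha
    haveI : Fact (Nat.Prime 3) := ⟨Nat.prime_three⟩
    have hinv : ∀ w ∈ F, v' * w * v'⁻¹ ∈ F := by
      intro w hw
      rcases hw with rfl | rfl | rfl | rfl
      · rw [show v' * 1 * v'⁻¹ = f 1 from rfl, hf1]; exact one_mem _
      · rw [show v' * t' * v'⁻¹ = f t' from rfl, hft]; exact Or.inr (Or.inl rfl)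
      · exact ha
      · rw [show v' * (e * t') * v'⁻¹ = f (e * t') from rfl, hfmul, hft]
        exact mul_mem ha (Or.inr (Or.inl rfl))
    have hm := card_inf_centralizer_modEq (p := 3) F hinv
      (isPGroup_zpowers (k := 1) (by rw [hv']; rfl))
    have hsub : ((F ⊓ centralizer ({v'} : Set H) : Subgroup H) : Set H) = {1, t'} := by
      ext x
      constructor
      · rintro ⟨h1, h2⟩
        exact hfix x (hFQ h1) (mem_centralizer_singleton_iff.1 h2)
      · rintro (rfl | rfl)
        · exact one_mem _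
        · exact ⟨Or.inr (Or.inl rfl), mem_centralizer_singleton_iff.2 (ht'c v')⟩
    have hc2 : Nat.card (F ⊓ centralizer ({v'} : Set H) : Subgroup H) = 2 := by
      have : Nat.card (F ⊓ centralizer ({v'} : Set H) : Subgroup H) =
          ((F ⊓ centralizer ({v'} : Set H) : Subgroup H) : Set H).ncard := Nat.card_coe_set_eq _
      rw [this, hsub, Set.ncard_pair ht1.symm]
    rw [hFc, hc2] at hm
    exact absurd hm (by decide)
  have hidx2 : (F.subgroupOf Q).index = 2 := by
    have := (F.subgroupOf Q).card_mul_index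
    rw [Nat.card_congr (Subgroup.subgroupOfEquivOfLe hFQ).toEquiv, hFc, hQ] at this
    omega
  have haQ : f e ∈ Q := hfQ e heQ
  have ha2 : f e * f e = 1 := by rw [← hfmul, he2, hf1]
  have hbF : f (f e) ∉ F := by
    intro hb
    rcases hb with hb | hb | hb | hb
    · exact het.1 (by rw [← hf3 e, hb, hf1])
    · exact het.2 (by rw [← hf3 e, hb, hft])
    · exact haF (by rw [show f e = e by conv_rhs => rw [← hf3 e, hb]]; exact Or.inr (Or.inr (Or.inl rfl)))
    · exact hnt (f e) (by
        show f (f e) = f e * t'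
        exfalso
        have h1 : e = f e * t' := by conv_lhs => rw [← hf3 e, hb, hfmul, hft]
        exact hnt e (show f e = e * t' by conv_rhs => rw [h1, mul_assoc, ht2, mul_one]))
  have hba : f (f e) * f e ∈ F := by
    have h := (Subgroup.mul_mem_iff_of_index_two hidx2 (a := ⟨f (f e), hfQ _ haQ⟩)
      (b := ⟨f e, haQ⟩)).2 ⟨fun h => absurd h hbF, fun h => absurd h haF⟩
    exact h
  have hb2 : f (f e) * f (f e) = 1 := by rw [← hfmul, ha2, hf1]
  have hea : e * f e = f e * e := by
    rcases hba with h | h | h | h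
    · exfalso
      have h' : f (f e) = f e := by rw [← mul_one (f (f e)), ← ha2, ← mul_assoc, h, one_mul]
      rcases hfix' (f e) haQ h' with h'' | h''
      exacts [het.1 (by rw [← hf3 e, h'', hf1, hf1]), het.2 (by rw [← hf3 e, h'', hft, hft])]
    · exfalso
      refine hnt (f e) (show f (f e) = f e * t' from ?_)
      rw [← ht'c (f e), ← h, mul_assoc, ha2, mul_one]
    · have h' : f (f e) = e * f e := by rw [← mul_one (f (f e)), ← ha2, ← mul_assoc, h]
      rw [h'] at hb2
      rw [eq_inv_of_mul_eq_one_left hb2, mul_inv_rev, inv_eq_of_mul_eq_one_right ha2,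
        inv_eq_of_mul_eq_one_right he2]
    · have h' : f (f e) = (e * f e) * t' := by
        rw [mul_assoc, ← ht'c (f e), ← mul_assoc, ← mul_one (f (f e)), ← ha2, ← mul_assoc, h]
      rw [h'] at hb2
      have h2 : e * f e * (e * f e) = 1 := by
        calc e * f e * (e * f e) = e * f e * (t' * (e * f e)) * t' := by
              rw [ht'c (e * f e)]; simp only [mul_assoc, ht2, mul_one]
          _ = 1 := by rw [← hb2]; simp only [mul_assoc]
      rw [eq_inv_of_mul_eq_one_left h2, mul_inv_rev, inv_eq_of_mul_eq_one_right ha2,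
        inv_eq_of_mul_eq_one_right he2]
  have hFa : ∀ w ∈ F, Commute w (f e) := by
    intro w hw
    rcases hw with rfl | rfl | rfl | rfl
    exacts [Commute.one_left _, ht'c _, hea, Commute.mul_left hea (ht'c _)]
  have hFsq : ∀ w ∈ F, w * w = 1 := fun w hw => by
    rcases hw with rfl | rfl | rfl | rfl
    · exact one_mul 1
    · exact ht2
    · exact he2
    · rw [mul_assoc, ← mul_assoc t', ht'c e, mul_assoc, ht2, mul_one, he2]
  have hexp : ∀ x ∈ Q, x * x = 1 := by
    intro x hx
    by_cases hxF : x ∈ F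
    · exact hFsq x hxF
    have h : x * f e ∈ F :=
      (Subgroup.mul_mem_iff_of_index_two hidx2 (a := ⟨x, hx⟩) (b := ⟨f e, haQ⟩)).2
        ⟨fun h => absurd h hxF, fun h => absurd h haF⟩
    have hx' : x = x * f e * f e := by rw [mul_assoc, ha2, mul_one]
    have hc' := (hFa _ h).eq
    have h2 := hFsq _ h
    calc x * x = (x * f e * f e) * (x * f e * f e) := by rw [← hx']
      _ = (x * f e * f e) * (f e * (x * f e)) := by rw [hc']
      _ = x * f e * (f e * f e) * (x * f e) := by group
      _ = 1 := by rw [ha2, mul_one, h2]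
  have hQab : ∀ x ∈ Q, ∀ y ∈ Q, x * y = y * x := fun x hx y hy => by
    have h := eq_inv_of_mul_eq_one_left (hexp _ (mul_mem hx hy))
    rwa [mul_inv_rev, inv_eq_of_mul_eq_one_right (hexp y hy),
      inv_eq_of_mul_eq_one_right (hexp x hx)] at h
  -- the image of `x ↦ x * f x`
  let ψ : Q →* H :=
    { toFun := fun x => (x : H) * f x
      map_one' := by rw [OneMemClass.coe_one, one_mul, hf1]
      map_mul' := fun x y => by
        rw [Subgroup.coe_mul, hfmul]
        calc (x : H) * y * (f x * f y) = x * (y * f x) * f y := by group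
          _ = x * (f x * y) * f y := by rw [hQab y y.2 (f x) (hfQ x x.2)]
          _ = x * f x * (y * f y) := by group }
  set U := ψ.range with hU
  have hUQ : U ≤ Q := by
    rintro _ ⟨x, rfl⟩
    exact mul_mem x.2 (hfQ x x.2)
  have hker : Nat.card ψ.ker = 2 := by
    have hk : (ψ.ker : Set Q) = {1, ⟨t', ht'Q⟩} := by
      ext x
      constructor
      · intro hx
        have hx' : (x : H) * f x = 1 := hx
        have h : f x = (x : H) :=
          (eq_inv_of_mul_eq_one_right hx').trans (inv_eq_of_mul_eq_one_right (hexp x x.2))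
        rcases hfix' x x.2 h with h' | h'
        · exact Or.inl (Subtype.ext h')
        · exact Or.inr (Subtype.ext h')
      · rintro (rfl | rfl)
        · exact one_mem _
        · show t' * f t' = 1
          rw [hft, ht2]
    have : Nat.card ψ.ker = (ψ.ker : Set Q).ncard := Nat.card_coe_set_eq _
    rw [this, hk, Set.ncard_pair (fun h => ht1 (congrArg Subtype.val h).symm)]
  have hUc : Nat.card U = 4 := by
    have h := Subgroup.card_eq_card_quotient_mul_card_subgroup ψ.ker
    rw [Nat.card_congr (QuotientGroup.quotientKerEquivRange ψ).toEquiv, hker, hQ, ← hU] at h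
    omega
  have htU : t' ∉ U := by
    rintro ⟨x, hx⟩
    refine hnt (x : H) ?_
    rw [← show (x : H) * f x = t' from hx, ← mul_assoc, hexp x x.2, one_mul]
  have hUn : ∀ h : H, ∀ u ∈ U, h * u * h⁻¹ ∈ U := by
    rintro h _ ⟨x, rfl⟩
    set M := Q ⊔ zpowers v' with hM
    haveI : M.Normal := by
      have d1 : 8 ∣ Nat.card M := hQ ▸ Subgroup.card_dvd_of_le le_sup_left
      have d2 : 3 ∣ Nat.card M := by
        have := Subgroup.card_dvd_of_le (le_sup_right : zpowers v' ≤ M)
        rwa [Nat.card_zpowers, hv'] at this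
      have d3 := (show Nat.Coprime 8 3 by norm_num).mul_dvd_of_dvd_of_dvd d1 d2
      obtain ⟨j, hj⟩ := d3
      have := M.card_mul_index
      rw [hj, hH] at this
      have h2 : M.index ∣ 2 := ⟨j, by linarith⟩
      rcases (Nat.dvd_prime Nat.prime_two).1 h2 with h' | h'
      · rw [Subgroup.index_eq_one] at h'; rw [h']; infer_instance
      · exact Subgroup.normal_of_index_eq_two h'
    obtain ⟨q, hq, w, hw, hqw⟩ := Subgroup.mem_sup_of_normal_left.1
      (‹M.Normal›.conj_mem v' (mem_sup_right (mem_zpowers v')) h)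
    set y := h * (x : H) * h⁻¹ with hy
    have hyQ : y ∈ Q := hQn.conj_mem _ x.2 h
    have hψ : h * ψ x * h⁻¹ = y * (q * (w * y * w⁻¹) * q⁻¹) := by
      calc h * ψ x * h⁻¹ = h * ((x : H) * (v' * x * v'⁻¹)) * h⁻¹ := rfl
        _ = y * ((h * v' * h⁻¹) * y * (h * v' * h⁻¹)⁻¹) := by rw [hy]; group
        _ = _ := by rw [← hqw]; group
    have hwy : w * y * w⁻¹ ∈ Q := hQn.conj_mem y hyQ w
    rw [hψ, hQab q hq _ hwy, mul_inv_cancel_right]
    rcases cases_zpowers_three hv' hw with hw' | hw' | hw'
    · rw [hw', one_mul, inv_one, mul_one, hexp y hyQ]; exact one_mem _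
    · rw [hw']; exact ⟨⟨y, hyQ⟩, rfl⟩
    · rw [hw', inv_inv]
      have hz : v'⁻¹ * y * v' ∈ Q := by simpa using hQn.conj_mem y hyQ v'⁻¹
      refine ⟨⟨_, hz⟩, ?_⟩
      show v'⁻¹ * y * v' * f (v'⁻¹ * y * v') = _
      rw [show f (v'⁻¹ * y * v') = y by simp only [hf]; group]
      exact hQab _ hz y hyQ
  -- a Sylow subgroup is not commutative
  have hSQ : Q ≤ (S : Subgroup H) := inf_le_left
  have hSnc : ∃ a ∈ (S : Subgroup H), ∃ b ∈ (S : Subgroup H), a * b ≠ b * a := by
    by_contra hcon
    push Not at hcon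
    set CQ := centralizer (Q : Set H) with hCQ
    haveI : CQ.Normal := by rw [hCQ]; infer_instance
    have hle : (S : Subgroup H) ≤ CQ := fun a ha =>
      mem_centralizer_iff.2 fun q hq => hcon q (hSQ hq) a ha
    obtain ⟨j, hj⟩ := Subgroup.card_dvd_of_le hle
    have hj' := CQ.card_mul_index
    rw [hj, hS S, hH] at hj'
    have hj3 : j ∣ 3 := ⟨CQ.index, by linarith⟩
    rcases (Nat.dvd_prime Nat.prime_three).1 hj3 with h | h
    · refine hnn S ?_
      rw [Subgroup.eq_of_le_of_card_ge hle (by rw [hj, hS S, h])]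
      infer_instance
    · have htop : CQ = ⊤ := Subgroup.eq_top_of_card_eq _ (by rw [hj, hS S, h, hH])
      have hv'C : v' ∈ CQ := htop ▸ mem_top v'
      rcases hfix e heQ (mem_centralizer_iff.1 hv'C e heQ) with h' | h'
      exacts [het.1 h', het.2 h']
  -- the commutator subgroup of a Sylow subgroup of `G`
  set SG := (S : Subgroup H).map H.subtype with hSG
  set UG := U.map H.subtype with hUG
  set D := ⁅SG, SG⁆ with hD
  haveI : (U.subgroupOf (S : Subgroup H)).Normal :=
    ⟨fun u hu a => by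
      rw [mem_subgroupOf] at hu ⊢
      simpa using hUn (a : H) _ hu⟩
  have hDU : D ≤ UG := by
    rw [hD, commutator_le]
    rintro _ ⟨a, ha, rfl⟩ _ ⟨b, hb, rfl⟩
    haveI := IsPGroup.isMulCommutative_of_card_eq_prime_sq (p := 2)
      (G := (S : Subgroup H) ⧸ U.subgroupOf (S : Subgroup H)) (by
        have := Subgroup.card_eq_card_quotient_mul_card_subgroup (U.subgroupOf (S : Subgroup H))
        rw [Nat.card_congr (Subgroup.subgroupOfEquivOfLe (hUQ.trans hSQ)).toEquiv, hUc, hS S] at this
        omega)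
    have h1 : ⁅((⟨a, ha⟩ : (S : Subgroup H))), ⟨b, hb⟩⁆ ∈ U.subgroupOf (S : Subgroup H) := by
      rw [← QuotientGroup.eq_one_iff, ← QuotientGroup.mk'_apply, map_commutatorElement,
        commutatorElement_eq_one_iff_mul_comm]
      exact IsMulCommutative.is_comm.comm _ _
    rw [mem_subgroupOf] at h1
    exact ⟨_, h1, by simp [commutatorElement_def]⟩
  have hDne : D ≠ ⊥ := by
    intro h
    obtain ⟨a, ha, b, hb, hab⟩ := hSnc
    have hm : ⁅H.subtype a, H.subtype b⁆ ∈ D :=
      commutator_mem_commutator (mem_map_of_mem _ ha) (mem_map_of_mem _ hb)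
    rw [h, mem_bot, commutatorElement_eq_one_iff_mul_comm, ← map_mul, ← map_mul] at hm
    exact hab (H.subtype_injective hm)
  have hDS : D ≤ SG := by
    rw [hD, commutator_le]
    exact fun a ha b hb => mul_mem (mul_mem (mul_mem ha hb) (inv_mem ha)) (inv_mem hb)
  have hconjD : ∀ g : G, SG.map (MulAut.conj g).toMonoidHom = SG →
      D.map (MulAut.conj g).toMonoidHom = D := fun g hg => by
    rw [hD, map_commutator, hg]
  haveI hDn : (D.subgroupOf SG).Normal := ⟨fun d hd a => by
    rw [mem_subgroupOf] at hd ⊢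
    have hg : SG.map (MulAut.conj (a : G)).toMonoidHom = SG := by
      refine Subgroup.eq_of_le_of_card_ge ?_
        (le_of_eq (Subgroup.card_map_of_injective (MulAut.conj (a : G)).injective).symm)
      rintro _ ⟨x, hx, rfl⟩
      exact mul_mem (mul_mem a.2 hx) (inv_mem a.2)
    rw [← hconjD _ hg]
    exact mem_map_of_mem _ hd⟩
  have hSGc : Nat.card SG = 16 := by
    rw [hSG, Subgroup.card_map_of_injective H.subtype_injective, hS S]
  obtain ⟨z, hzne, hzc⟩ : ∃ z : D.subgroupOf SG, z ≠ 1 ∧ ∀ a : SG, a * (z : SG) = z * a := by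
    have hSp : IsPGroup 2 (ConjAct SG) := IsPGroup.of_card (n := 4) (by
      rw [Nat.card_congr ConjAct.ofConjAct.toEquiv, hSGc]; norm_num)
    have h2 : 2 ∣ Nat.card (D.subgroupOf SG) := by
      obtain ⟨j, -, hj⟩ := (Nat.dvd_prime_pow Nat.prime_two).1 (show Nat.card (D.subgroupOf SG) ∣ 2 ^ 4 by
        have := Subgroup.card_subgroup_dvd_card (D.subgroupOf SG)
        rw [hSGc, show (16 : ℕ) = 2 ^ 4 by norm_num] at this; exact this)
      rw [hj]
      refine dvd_pow_self 2 fun h0 => ?_
      rw [h0, pow_zero, Subgroup.card_eq_one, subgroupOf_eq_bot, disjoint_iff, inf_eq_left.2 hDS] at hj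
      exact hDne hj
    obtain ⟨z, hz, hz1⟩ := hSp.exists_fixed_point_of_prime_dvd_card_of_fixed_point
      (α := D.subgroupOf SG) h2 (a := 1) (fun a => smul_one a)
    refine ⟨z, hz1.symm, fun a => ?_⟩
    have h := congrArg (fun w : D.subgroupOf SG => (w : SG)) (hz (ConjAct.toConjAct a))
    simp only [ConjAct.Subgroup.val_conj_smul, ConjAct.smul_def, ConjAct.ofConjAct_toConjAct] at h
    exact mul_inv_eq_iff_eq_mul.1 h
  have hzD : ((z : SG) : G) ∈ D := z.2
  obtain ⟨u, hu, huz⟩ := hDU hzD
  have hzo : orderOf ((z : SG) : G) = 2 := by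
    refine orderOf_eq_prime ?_ fun h => hzne (Subtype.ext (Subtype.ext h))
    rw [← huz, ← map_pow, pow_two, hexp u (hUQ hu), map_one]
  obtain ⟨c, hc'⟩ := isConj_iff.1 (isConj_of_involutions K ht hzo)
  let SY : Sylow 2 G := Sylow.ofCard SG (by
    rw [hSGc, K.order, show (5616 : ℕ) = 2 ^ 4 * 351 by norm_num,
      Nat.factorization_mul (by norm_num) (by norm_num), Finsupp.add_apply,
      Nat.factorization_eq_zero_of_not_dvd (show ¬ 2 ∣ 351 by norm_num), add_zero,
      Nat.Prime.factorization_pow Nat.prime_two, Finsupp.single_eq_same]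
    norm_num)
  have htc : t ∈ centralizer ((SY : Subgroup G) : Set G) := by
    refine mem_centralizer_iff.2 fun a ha => ?_
    obtain ⟨a', -, rfl⟩ := (show a ∈ SG from ha)
    exact mem_centralizer_singleton_iff.1 a'.2
  have hzc' : c⁻¹⁻¹ * t * c⁻¹ ∈ centralizer ((SY : Subgroup G) : Set G) := by
    rw [inv_inv, hc']
    exact mem_centralizer_iff.2 fun a ha => congrArg Subtype.val (hzc ⟨a, ha⟩)
  obtain ⟨n, hn, hn'⟩ := SY.conj_eq_normalizer_conj_of_mem_centralizer t c⁻¹ htc hzc'
  rw [inv_inv, hc'] at hn'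
  have hnS : SG.map (MulAut.conj n).toMonoidHom = SG := by
    refine Subgroup.eq_of_le_of_card_ge ?_
      (le_of_eq (Subgroup.card_map_of_injective (MulAut.conj n).injective).symm)
    rintro _ ⟨x, hx, rfl⟩
    exact (mem_normalizer_iff.1 hn x).1 hx
  have htD : t ∈ D := by
    rw [← hconjD n hnS]
    refine ⟨_, hzD, ?_⟩
    show n * ((z : SG) : G) * n⁻¹ = t
    rw [hn']; group
  obtain ⟨u', hu', hut⟩ := hDU htD
  exact htU ((Subtype.ext hut : u' = t') ▸ hu')

/-- The involution centralizer is `GL(2,3)`. -/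
theorem nonempty_centralizer {t : G} (ht : orderOf t = 2) :
    Nonempty (centralizer ({t} : Set G) ≃* GL (Fin 2) (ZMod 3)) := by
  haveI : Fact (Nat.Prime 2) := ⟨Nat.prime_two⟩
  haveI : Fact (Nat.Prime 3) := ⟨Nat.prime_three⟩
  set H := centralizer ({t} : Set G) with hHdef
  have hH : Nat.card H = 48 := card_centralizer K ht
  obtain ⟨v', hv'⟩ := exists_prime_orderOf_dvd_card' (G := H) 3 (by rw [hH]; norm_num)
  have hv : orderOf (v' : G) = 3 := by rw [Subgroup.orderOf_coe, hv']
  have hc : Commute t (v' : G) := (mem_centralizer_singleton_iff.1 v'.2).symm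
  have hC6 : Nat.card (centralizer ({v'} : Set H)) = 6 :=
    (card_inf_eq t (v' : G) v'.2).trans (card_inf_six K ht hv hc)
  have hnn : ∀ U : Sylow 2 H, ¬ (U : Subgroup H).Normal := by
    intro U hU
    have hU16 : Nat.card (U : Subgroup H) = 16 := by
      rw [sylow_card_eq U (k := 4) (m := 3) (by rw [hH]; norm_num) (by norm_num)]; norm_num
    have hm := card_inf_centralizer_modEq (p := 3) (U : Subgroup H) (x := v')
      (fun w hw => hU.conj_mem w hw v') (isPGroup_zpowers (k := 1) (by rw [hv']; rfl))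
    have a := Subgroup.card_dvd_of_le
      (inf_le_left : (U : Subgroup H) ⊓ centralizer ({v'} : Set H) ≤ U)
    have b := Subgroup.card_dvd_of_le
      (inf_le_right : (U : Subgroup H) ⊓ centralizer ({v'} : Set H) ≤ centralizer ({v'} : Set H))
    rw [hU16] at a hm; rw [hC6] at b
    have hd : Nat.card ((U : Subgroup H) ⊓ centralizer ({v'} : Set H) : Subgroup H) ∣ 2 :=
      (Nat.dvd_gcd a b).trans (by norm_num)
    set t' : H := ⟨t, mem_centralizer_singleton_iff.2 rfl⟩
    have ht'o : orderOf t' = 2 := by rw [Subgroup.orderOf_mk, ht]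
    obtain ⟨U', hU'⟩ := exists_mem_sylow_of_orderOf (p := 2) (k := 1) (g := t') (by rw [ht'o]; rfl)
    haveI := Sylow.unique_of_normal U hU
    rw [Subsingleton.elim U' U] at hU'
    have ht1 := Subgroup.orderOf_dvd_natCard ((U : Subgroup H) ⊓ centralizer ({v'} : Set H))
      (x := t') ⟨hU', mem_centralizer_singleton_iff.2
        (Subtype.ext (mem_centralizer_singleton_iff.1 v'.2).symm)⟩
    rw [ht'o] at ht1
    rw [Nat.dvd_antisymm hd ht1] at hm
    exact absurd hm (by decide)
  have hI : ∀ S T : Sylow 2 H, S ≠ T → PRankLE 2 1 ((S : Subgroup H) ⊓ T : Subgroup H) :=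
    fun S T h => pRankLE_inf K ht (v' : G) hv hc hnn S T h
  have hsolv : Group.IsSolvable H :=
    CfsgLib.Burnside.isSolvable_of_card_eq Nat.prime_two Nat.prime_three
      (a := 4) (b := 1) (by rw [hH]; norm_num)
  have hO : oddCore H = ⊥ := by
    rw [eq_bot_iff]
    refine sSup_le ?_
    rintro N ⟨hN, hodd⟩
    haveI := hN
    have hdvd := Subgroup.card_subgroup_dvd_card N
    rw [hH, show (48 : ℕ) = 16 * 3 by norm_num] at hdvd
    have hd3 : Nat.card N ∣ 3 := by
      refine (Nat.Coprime.dvd_of_dvd_mul_left ?_ hdvd)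
      rw [show (16 : ℕ) = 2 ^ 4 by norm_num]
      exact hodd.pow_right 4
    rcases (Nat.dvd_prime Nat.prime_three).1 hd3 with h | h
    · rw [Subgroup.card_eq_one.1 h]
    exfalso
    obtain ⟨w, hw⟩ := exists_prime_orderOf_dvd_card' (G := N) 3 (by rw [h])
    have hwo : orderOf (w : H) = 3 := by rw [Subgroup.orderOf_coe, hw]
    have hwo' : orderOf ((w : H) : G) = 3 := by rw [Subgroup.orderOf_coe, hwo]
    have hw1 : (w : H) ≠ 1 := fun e => by rw [e, orderOf_one] at hwo; norm_num at hwo
    have hz := zpowers_eq_of_card (p := 3) h w.2 hw1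
    set C := centralizer ({(w : H)} : Set H) with hCdef
    have hC : Nat.card C = 6 :=
      (card_inf_eq t ((w : H) : G) (w : H).2).trans
        (card_inf_six K ht hwo' (mem_centralizer_singleton_iff.1 (w : H).2).symm)
    have hinj : Function.Injective (fun q : H ⧸ C => Quotient.liftOn' q
        (fun x => x * (w : H) * x⁻¹) (fun x y hxy => by
          rw [QuotientGroup.leftRel_apply, mem_centralizer_singleton_iff] at hxy
          calc x * (w : H) * x⁻¹ = x * ((x⁻¹ * y) * w * (x⁻¹ * y)⁻¹) * x⁻¹ := by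
                rw [hxy, mul_inv_cancel_right]
            _ = y * (w : H) * y⁻¹ := by group)) := by
      intro q r
      induction q using Quotient.inductionOn' with | h x => ?_
      induction r using Quotient.inductionOn' with | h y => ?_
      intro e
      simp only [Quotient.liftOn'_mk''] at e
      refine Quotient.sound' ?_
      rw [QuotientGroup.leftRel_apply, mem_centralizer_singleton_iff]
      calc x⁻¹ * y * (w : H) = x⁻¹ * (y * w * y⁻¹) * y := by group
        _ = x⁻¹ * (x * w * x⁻¹) * y := by rw [e]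
        _ = (w : H) * (x⁻¹ * y) := by group
    have h3 : Nat.card (H ⧸ C) ≤ Nat.card N :=
      Nat.card_le_card_of_injective (fun q => (⟨_, by
        induction q using Quotient.inductionOn' with | h x => exact hN.conj_mem _ w.2 x⟩ : N))
        (fun q r e => hinj (congrArg Subtype.val e))
    have := C.card_mul_index
    rw [Subgroup.index, hC, hH] at this
    omega
  have q : (H ⧸ oddCore H) ≃* H :=
    (QuotientGroup.quotientMulEquivOfEq hO).trans QuotientGroup.quotientBot
  rcases Cfsg.Agent.S3304.result hsolv hI with ⟨Q, hQ⟩ | ⟨⟨e⟩⟩ | ⟨-, -, -, hQ⟩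
  · exfalso
    obtain ⟨U⟩ := (inferInstance : Nonempty (Sylow 2 H))
    haveI : ((Q : Subgroup (H ⧸ oddCore H)).map q.toMonoidHom).Normal :=
      hQ.map _ q.surjective
    have hc16 : Nat.card ((Q : Subgroup (H ⧸ oddCore H)).map q.toMonoidHom : Subgroup H) = 16 := by
      rw [Subgroup.card_map_of_injective q.injective,
        sylow_card_eq Q (k := 4) (m := 3) (by rw [Nat.card_congr q.toEquiv, hH]; norm_num) (by norm_num)]
      norm_num
    refine hnn (Sylow.ofCard _ (by
      rw [hc16, hH, show (48 : ℕ) = 2 ^ 4 * 3 by norm_num,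
        Nat.factorization_mul (by norm_num) (by norm_num), Finsupp.add_apply,
        Nat.factorization_eq_zero_of_not_dvd (show ¬ 2 ∣ 3 by norm_num), add_zero,
        Nat.Prime.factorization_pow Nat.prime_two, Finsupp.single_eq_same]
      norm_num)) ?_
    rw [Sylow.coe_ofCard]; infer_instance
  · exact ⟨q.symm.trans e⟩
  · exfalso
    obtain ⟨Q⟩ := (inferInstance : Nonempty (Sylow 2 (H ⧸ oddCore H)))
    obtain ⟨e⟩ := hQ Q
    set QG := (Q : Subgroup (H ⧸ oddCore H)).map (H.subtype.comp q.toMonoidHom) with hQG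
    have hinj : Function.Injective (H.subtype.comp q.toMonoidHom) :=
      H.subtype_injective.comp q.injective
    have hc : Nat.card QG = 16 := by
      rw [hQG, Subgroup.card_map_of_injective hinj,
        sylow_card_eq Q (k := 4) (m := 3) (by rw [Nat.card_congr q.toEquiv, hH]; norm_num) (by norm_num)]
      norm_num
    let SY : Sylow 2 G := Sylow.ofCard QG (by
      rw [hc, K.order, show (5616 : ℕ) = 2 ^ 4 * 351 by norm_num,
        Nat.factorization_mul (by norm_num) (by norm_num), Finsupp.add_apply,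
        Nat.factorization_eq_zero_of_not_dvd (show ¬ 2 ∣ 351 by norm_num), add_zero,
        Nat.Prime.factorization_pow Nat.prime_two, Finsupp.single_eq_same]
      norm_num)
    have e' : (SY : Subgroup G) ≃* QuaternionGroup (2 ^ (1 + 1)) :=
      ((Q : Subgroup (H ⧸ oddCore H)).equivMapOfInjective _ hinj).symm.trans e
    have hcen := Cfsg.Agent.S0201.result SY 1 e' (fun N hN hodd => by
      rcases hN.eq_bot_or_eq_top with h | h
      · exact h
      · rw [h, Subgroup.card_top, K.order] at hodd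
        exact absurd hodd (by decide))
    rcases (inferInstance : (center G).Normal).eq_bot_or_eq_top with h | h
    · rw [h, Subgroup.card_bot] at hcen; norm_num at hcen
    · rw [h, Subgroup.card_top, K.order] at hcen; norm_num at hcen

end CfsgLib.Recog.LThreeThree5616
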