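import Cfsg.Agent.Lib.Perm.FewSylowTable
import Cfsg.Agent.Lib.Perm.DihedralNormalizer
import Cfsg.Agent.Lib.Perm.ThreePrimeOrder.Five
import Cfsg.Agent.Lib.Perm.ThreePrimeOrder.PrincipalValue
import Cfsg.Agent.Lib.Perm.ThreePrimeOrder.Order5040
import Cfsg.Agent.Lib.Char.Real
import Cfsg.Agent.Lib.Perm.PrimeOrderCount
import Cfsg.Agent.S1001

/-!
# The principal block of a simple group of order 5616 at the prime 13

The non-principal characters of the block have degrees `12`, `27` and four times `16`. They give the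
order of every involution centralizer, a single class of involutions, and the values at `3`-elements.
-/

set_option autoImplicit false

namespace CfsgLib.Recog.LThreeThree5616

open Cfsg CfsgLib.Char CfsgLib.Blocks CfsgLib.Perm Subgroup
open scoped ComplexConjugate Classical

/-- The characters `A`, `B` of degrees `12`, `27` and the four of degree `16`. -/
structure Block (G : Type*) [Group G] [Fintype G] (P : Sylow 13 G) (A B : IrrCharacter G)
    (Y : Finset (IrrCharacter G)) : Prop where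
  order : Nat.card G = 5616
  degA : charDegree (A : G → ℂ) = 12
  degB : charDegree (B : G → ℂ) = 27
  neAB : A ≠ B
  cardY : Y.card = 4
  degY : ∀ θ ∈ Y, charDegree (θ : G → ℂ) = 16
  rel : ∀ θ ∈ Y, ∀ g : G, ¬ 13 ∣ orderOf g →
    (θ : G → ℂ) g = 1 - (A : G → ℂ) g + (B : G → ℂ) g
  rest : ∀ χ : IrrCharacter G, χ ≠ trivChar G → χ ≠ A → χ ≠ B → χ ∉ Y →
    ∀ x ∈ (P : Subgroup G), x ≠ 1 → (χ : G → ℂ) x = 0
  valA : ∀ x ∈ (P : Subgroup G), x ≠ 1 → (A : G → ℂ) x = -1
  valB : ∀ x ∈ (P : Subgroup G), x ≠ 1 → (B : G → ℂ) x = 1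
  cent : ∀ x ∈ (P : Subgroup G), x ≠ 1 → centralizer ({x} : Set G) = (P : Subgroup G)
  cardN : Nat.card (normalizer ((P : Subgroup G) : Set G)) = 39
  cardP : Nat.card (P : Subgroup G) = 13

variable {G : Type*} [Group G] [Fintype G] [IsSimpleGroup G]

attribute [local instance] Classical.propDecidable

omit [Fintype G] in
theorem not_comm [Finite G] (h : Nat.card G = 5616) : ¬ IsMulCommutative G :=
  not_comm_of_not_prime (by rw [h]; norm_num)

theorem exists_block (h : Nat.card G = 5616) :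
    ∃ (P : Sylow 13 G) (A B : IrrCharacter G) (Y : Finset (IrrCharacter G)), Block G P A B Y := by
  haveI : Fact (Nat.Prime 13) := ⟨by norm_num⟩
  haveI := Fintype.ofFinite (IrrCharacter G)
  obtain ⟨P⟩ := (inferInstance : Nonempty (Sylow 13 G))
  have hP : Nat.card (P : Subgroup G) = 13 := by
    rw [sylow_card_eq P (k := 1) (m := 432) (by rw [h]; norm_num) (by norm_num), pow_one]
  obtain ⟨x, hx⟩ := exists_prime_orderOf_dvd_card' (G := (P : Subgroup G)) 13 (by rw [hP])
  have hxo : orderOf (x : G) = 13 := by rw [Subgroup.orderOf_coe, hx]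
  have hx1 : (x : G) ≠ 1 := fun e => by rw [e, orderOf_one] at hxo; norm_num at hxo
  have hC : centralizer ((P : Subgroup G) : Set G) = (P : Subgroup G) := by
    rw [← centralizer_eq_of_prime_card (by norm_num) hP x.2 hx1,
      Cfsg.Agent.S1001.result 13 3 4 (by norm_num) (by rw [h]; norm_num) (x : G) hxo,
      zpowers_eq_of_prime_card (by norm_num) hP x.2 hx1]
  obtain ⟨v, e, t, n, F⟩ :=
    FewSylow.exists_frame P hP hC (ThreePrimeOrder.perfect_of_nc (not_comm h))
  have he : e ∣ 12 := ⟨t, by have := F.et; omega⟩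
  have he2 := F.two
  have hcG := F.cardG
  have he12 : e ≤ 12 := Nat.le_of_dvd (by norm_num) he
  have he' : e = 3 := by interval_cases e <;> omega
  subst he'
  have ht : t = 4 := by have := F.et; omega
  subst ht
  obtain ⟨X, Y, εX, ε, hdisj, hTX, hT1, hXc, hYc, hX, hε, hY, -, hrel, -, hrest, -⟩ :=
    FewSylow.exists_values F
  obtain ⟨A, B, hAB, hXe⟩ : ∃ A B, A ≠ B ∧ X.erase (trivChar G) = {A, B} :=
    Finset.card_eq_two.1 (by rw [Finset.card_erase_of_mem hTX, hXc])
  have hA : A ∈ X.erase (trivChar G) := by rw [hXe]; exact Finset.mem_insert_self A {B}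
  have hB : B ∈ X.erase (trivChar G) := by
    rw [hXe]; exact Finset.mem_insert_of_mem (Finset.mem_singleton_self B)
  let d : IrrCharacter G → ℕ := fun χ => charDegree (χ : G → ℂ)
  have hd75 : ∀ χ, d χ < 75 := fun χ => by
    have hsum : ∑ ψ : IrrCharacter G, d ψ ^ 2 = Nat.card G := by
      rw [← Nat.cast_inj (R := ℂ), Nat.cast_sum, ← sum_sq_degree]
      exact Finset.sum_congr rfl fun ψ _ => by
        simp only [d]; rw [apply_one_eq_charDegree, Nat.cast_pow]
    have h2 := Finset.single_le_sum (f := fun ψ : IrrCharacter G => d ψ ^ 2)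
      (fun _ _ => Nat.zero_le _) (Finset.mem_univ χ)
    rw [hsum, h] at h2
    by_contra hlt
    have : 75 ^ 2 ≤ d χ ^ 2 := Nat.pow_le_pow_left (by omega) 2
    omega
  have keyX : ∀ a : ℕ, a < 75 → 5616 % a = 0 → a ≠ 1 → (a % 13 = 1 → a = 27) ∧
      (a % 13 = 12 → a = 12) := by decide +kernel
  have hXval : ∀ χ ∈ X.erase (trivChar G),
      εX χ = 1 ∧ d χ = 27 ∨ εX χ = -1 ∧ d χ = 12 := by
    intro χ hχ
    obtain ⟨hne, hχX⟩ := Finset.mem_erase.1 hχ
    obtain ⟨hs, hm, -⟩ := hX χ hχX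
    obtain ⟨j, hj⟩ := Int.modEq_iff_dvd.1 hm
    push_cast at hj
    obtain ⟨k1, k2⟩ := keyX _ (hd75 χ) (Nat.mod_eq_zero_of_dvd (h ▸ charDegree_dvd_card χ))
      (fun e => hne (FewSylow.eq_trivChar F.perf χ e))
    rcases hs with e | e <;> rw [e] at hj ⊢
    · exact Or.inl ⟨rfl, k1 (by simp only [d]; omega)⟩
    · exact Or.inr ⟨rfl, k2 (by simp only [d]; omega)⟩
  have hrel' : ∀ θ ∈ Y, ∀ g : G, ¬ 13 ∣ orderOf g → (ε : ℂ) * (θ : G → ℂ) g =
      1 + ((εX A : ℂ) * (A : G → ℂ) g + (εX B : ℂ) * (B : G → ℂ) g) := by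
    intro θ hθ g hg
    rw [hrel θ hθ g hg, ← Finset.add_sum_erase _ _ hTX, hXe, Finset.sum_pair hAB, hT1, trivChar_apply]
    simp
  have hdeg : ∀ θ ∈ Y, ε * (d θ : ℤ) = 1 + (εX A * (d A : ℤ) + εX B * (d B : ℤ)) := by
    intro θ hθ
    have h1 := hrel' θ hθ 1 (by rw [orderOf_one]; norm_num)
    simp only [apply_one_eq_charDegree] at h1
    exact_mod_cast h1
  obtain ⟨θ0, hθ0⟩ : Y.Nonempty := Finset.card_pos.1 (by omega)
  have hdvd0 : d θ0 ∣ 5616 := h ▸ charDegree_dvd_card θ0
  have hnot : d θ0 ≠ 23 ∧ d θ0 ≠ 55 := by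
    constructor <;> intro e <;> rw [e] at hdvd0 <;> norm_num at hdvd0
  have hX' : ∀ χ ∈ X, ∀ y ∈ (P : Subgroup G), y ≠ 1 → (χ : G → ℂ) y = (εX χ : ℂ) := fun χ hχ y hy hy1 =>
    (hX χ hχ).2.2 y (FewSylow.mem_star.2 ⟨hy1, hy⟩)
  have finish : ∀ A B : IrrCharacter G, A ≠ B → X.erase (trivChar G) = {A, B} →
      εX A = -1 → d A = 12 → εX B = 1 → d B = 27 → Block G P A B Y := by
    intro A B hAB hXe e1 d1 e2 d2
    have hrelAB : ∀ θ ∈ Y, ∀ g : G, ¬ 13 ∣ orderOf g →
        (ε : ℂ) * (θ : G → ℂ) g = 1 - (A : G → ℂ) g + (B : G → ℂ) g := by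
      intro θ hθ g hg
      rw [hrel θ hθ g hg, ← Finset.add_sum_erase _ _ hTX, hXe, Finset.sum_pair hAB, hT1,
        trivChar_apply, e1, e2]
      push_cast
      ring
    have hεθ : ∀ θ ∈ Y, ε = 1 ∧ d θ = 16 := by
      intro θ hθ
      have h1 := hrelAB θ hθ 1 (by rw [orderOf_one]; norm_num)
      simp only [apply_one_eq_charDegree] at h1
      rw [show charDegree (A : G → ℂ) = 12 from d1, show charDegree (B : G → ℂ) = 27 from d2] at h1
      have h2 : ((ε * (d θ : ℤ) : ℤ) : ℂ) = ((16 : ℤ) : ℂ) := by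
        push_cast at h1 ⊢
        rw [h1]; norm_num
      have h3 : ε * (d θ : ℤ) = 16 := by exact_mod_cast h2
      rcases hε with e | e <;> rw [e] at h3
      · exact ⟨e, by omega⟩
      · exact absurd h3 (by omega)
    have hA : A ∈ X.erase (trivChar G) := by rw [hXe]; exact Finset.mem_insert_self A {B}
    have hB : B ∈ X.erase (trivChar G) := by
      rw [hXe]; exact Finset.mem_insert_of_mem (Finset.mem_singleton_self B)
    refine ⟨h, d1, d2, hAB, hYc, fun θ hθ => (hεθ θ hθ).2, fun θ hθ g hg => ?_, ?_, ?_, ?_, F.cent,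
      F.cardN, F.card⟩
    · have := hrelAB θ hθ g hg
      rwa [(hεθ θ hθ).1, Int.cast_one, one_mul] at this
    · intro χ h1 h2 h3 h4 y hy hy1
      refine hrest χ ?_ y (FewSylow.mem_star.2 ⟨hy1, hy⟩)
      rw [Finset.mem_union, not_or]
      refine ⟨fun hχ => ?_, h4⟩
      have : χ ∈ X.erase (trivChar G) := Finset.mem_erase.2 ⟨h1, hχ⟩
      rw [hXe] at this
      simp [h2, h3] at this
    · intro y hy hy1
      rw [hX' A (Finset.mem_of_mem_erase hA) y hy hy1, e1]; norm_num
    · intro y hy hy1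
      rw [hX' B (Finset.mem_of_mem_erase hB) y hy hy1, e2]; norm_num
  have h0 := hdeg θ0 hθ0
  rcases hXval A hA with ⟨e1, d1⟩ | ⟨e1, d1⟩ <;> rcases hXval B hB with ⟨e2, d2⟩ | ⟨e2, d2⟩
  · exfalso; rw [e1, e2, d1, d2] at h0; rcases hε with e | e <;> rw [e] at h0 <;> omega
  · exact ⟨P, B, A, Y, finish B A hAB.symm (hXe.trans (Finset.pair_comm A B)) e2 d2 e1 d1⟩
  · exact ⟨P, A, B, Y, finish A B hAB hXe e1 d1 e2 d2⟩
  · exfalso; rw [e1, e2, d1, d2] at h0; rcases hε with e | e <;> rw [e] at h0 <;> omega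

variable {P : Sylow 13 G} {A B : IrrCharacter G} {Y : Finset (IrrCharacter G)} (K : Block G P A B Y)

include K

omit [IsSimpleGroup G] in
theorem triv_ne : trivChar G ≠ A ∧ trivChar G ≠ B ∧ trivChar G ∉ Y ∧ A ∉ Y ∧ B ∉ Y := by
  have hT : charDegree ((trivChar G : IrrCharacter G) : G → ℂ) = 1 := by simp [charDegree]
  refine ⟨fun e => ?_, fun e => ?_, fun e => ?_, fun e => ?_, fun e => ?_⟩
  · have := K.degA; rw [← e, hT] at this; omega
  · have := K.degB; rw [← e, hT] at this; omega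
  · have := K.degY _ e; rw [hT] at this; omega
  · have := K.degY _ e; rw [K.degA] at this; omega
  · have := K.degY _ e; rw [K.degB] at this; omega

omit [IsSimpleGroup G] in
/-- The six distinguished non-trivial characters as one finite set with the trivial one. -/
theorem sum_block {M : Type*} [AddCommMonoid M] (f : IrrCharacter G → M) :
    ∑ χ ∈ insert (trivChar G) (insert A (insert B Y)), f χ =
      f (trivChar G) + (f A + (f B + ∑ θ ∈ Y, f θ)) := by
  obtain ⟨h1, h2, h3, h4, h5⟩ := triv_ne K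
  rw [Finset.sum_insert, Finset.sum_insert, Finset.sum_insert h5]
  · simp [K.neAB, h4]
  · simp [h1, h2, h3]

/-- `A` is the only character of degree twelve. -/
theorem eq_A {χ : IrrCharacter G} (hχ : charDegree (χ : G → ℂ) = 12) : χ = A := by
  haveI : Fact (Nat.Prime 13) := ⟨by norm_num⟩
  haveI := Fintype.ofFinite (P : Subgroup G)
  by_contra hne
  have hT : χ ≠ trivChar G := fun e => by rw [e] at hχ; simp [charDegree] at hχ
  have hB : χ ≠ B := fun e => by rw [e, K.degB] at hχ; omega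
  have hY : χ ∉ Y := fun e => by rw [K.degY _ e] at hχ; omega
  obtain ⟨d, hd⟩ := CharAverage.exists_sum_eq (P : Subgroup G) (IsIrr.isCharacter χ.2)
  rw [FewSylow.sum_subgroup, K.cardP, apply_one_eq_charDegree, hχ,
    Finset.sum_eq_zero (fun x hx => K.rest χ hT hne hB hY x (FewSylow.mem_star.1 hx).2
      (FewSylow.mem_star.1 hx).1)] at hd
  have : (12 : ℕ) = 13 * d := by exact_mod_cast (by simpa using hd : ((12 : ℕ) : ℂ) = (13 : ℂ) * d)
  omega

/-- `A` is real. -/
theorem A_real (g : G) : conj ((A : G → ℂ) g) = (A : G → ℂ) g := by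
  have h1 : conjIrr A = A := eq_A K (by
    have := K.degA
    rw [← Nat.cast_inj (R := ℂ), ← apply_one_eq_charDegree] at this ⊢
    rw [conjIrr_apply, this, Complex.conj_natCast])
  rw [← conjIrr_apply, h1]

omit [IsSimpleGroup G] in
/-- Characters of full `2`-part or `3`-part vanish at the singular elements. -/
theorem vanish_two {θ : IrrCharacter G} (hθ : θ ∈ Y) {g : G} (hg : 2 ∣ orderOf g) :
    (θ : G → ℂ) g = 0 :=
  ThreePrimeOrder.vanish_of_full Nat.prime_two (by rw [K.order, K.degY θ hθ]; norm_num) hg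

omit [IsSimpleGroup G] in
theorem vanish_three {g : G} (hg : 3 ∣ orderOf g) : (B : G → ℂ) g = 0 :=
  ThreePrimeOrder.vanish_of_full Nat.prime_three (by rw [K.order, K.degB]; norm_num) hg

theorem thirteen_not_dvd {g : G} {q : ℕ} (hq : q ∣ orderOf g) (hq2 : 1 < q) (hq13 : q ≠ 13) :
    ¬ 13 ∣ orderOf g := by
  intro h13
  haveI : Fact (Nat.Prime 13) := ⟨by norm_num⟩
  obtain ⟨j, hj⟩ := h13
  have hg0 := orderOf_pos g
  have hj0 : j ≠ 0 := fun e => by rw [e, mul_zero] at hj; omega
  have hw : orderOf (g ^ j) = 13 := by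
    rw [orderOf_pow' _ hj0, hj, Nat.gcd_mul_left_left, Nat.mul_div_cancel _ (Nat.pos_of_ne_zero hj0)]
  obtain ⟨S, hS⟩ := exists_mem_sylow_of_orderOf (p := 13) (k := 1) (g := g ^ j) (by rw [hw]; rfl)
  obtain ⟨c, hc⟩ := MulAction.exists_smul_eq G P S
  rw [← hc, Sylow.coe_subgroup_smul, mem_smul_pointwise_iff_exists] at hS
  obtain ⟨w, hwP, hwe⟩ := hS
  have hwe' : c * w * c⁻¹ = g ^ j := hwe
  have hw1 : w ≠ 1 := fun e => by
    rw [e, mul_one, mul_inv_cancel] at hwe'
    rw [← hwe', orderOf_one] at hw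
    norm_num at hw
  have hmem : c⁻¹ * g * c ∈ (P : Subgroup G) := by
    rw [← K.cent w hwP hw1, mem_centralizer_singleton_iff]
    calc c⁻¹ * g * c * w = c⁻¹ * (g * (c * w * c⁻¹)) * c := by group
      _ = c⁻¹ * (g * g ^ j) * c := by rw [hwe']
      _ = c⁻¹ * (g ^ j * g) * c := by rw [← pow_succ', ← pow_succ]
      _ = c⁻¹ * (c * w * c⁻¹ * g) * c := by rw [hwe']
      _ = w * (c⁻¹ * g * c) := by group
  have hd := Subgroup.orderOf_dvd_natCard _ hmem
  rw [K.cardP, show c⁻¹ * g * c = c⁻¹ * g * c⁻¹⁻¹ by group, orderOf_conj_eq] at hd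
  rcases (Nat.dvd_prime (by norm_num)).1 (hq.trans hd) with e | e <;> omega

/-- The values `4` and `3` at an involution. -/
theorem values_involution {u : G} (hu : orderOf u = 2) :
    (A : G → ℂ) u = 4 ∧ (B : G → ℂ) u = 3 := by
  haveI := Fintype.ofFinite (IrrCharacter G)
  haveI : Fact (Nat.Prime 13) := ⟨by norm_num⟩
  have hu2 : u * u = 1 := by rw [← pow_two, ← hu, pow_orderOf_eq_one]
  obtain ⟨a, ha⟩ := SelfCentDegree.exists_int_of_sq_eq_one A hu2
  obtain ⟨b, hb⟩ := SelfCentDegree.exists_int_of_sq_eq_one B hu2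
  obtain ⟨θ, hθ⟩ : Y.Nonempty := Finset.card_pos.1 (by rw [K.cardY]; norm_num)
  have h13 : ¬ 13 ∣ orderOf u := by rw [hu]; norm_num
  have hab : b = a - 1 := by
    have := K.rel θ hθ u h13
    rw [vanish_two K hθ (by rw [hu]), ha, hb] at this
    have h' : ((b : ℤ) : ℂ) = ((a - 1 : ℤ) : ℂ) := by push_cast; linear_combination -this
    exact_mod_cast h'
  obtain ⟨x, hx⟩ := exists_prime_orderOf_dvd_card' (G := (P : Subgroup G)) 13 (by rw [K.cardP])
  have hxo : orderOf (x : G) = 13 := by rw [Subgroup.orderOf_coe, hx]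
  have hx1 : (x : G) ≠ 1 := fun e => by rw [e, orderOf_one] at hxo; norm_num at hxo
  have hzero : Nat.card {p : G × G // p.1 * u * p.1⁻¹ * (p.2 * u * p.2⁻¹ * x) = 1} = 0 := by
    rw [Nat.card_eq_zero]
    refine Or.inl ⟨fun ⟨⟨g, k⟩, e⟩ => ?_⟩
    have hk2 : (k * u * k⁻¹) * (k * u * k⁻¹) = 1 := by
      calc _ = k * (u * u) * k⁻¹ := by group
        _ = 1 := by rw [hu2]; group
    have hg2 : (g * u * g⁻¹) * (g * u * g⁻¹) = 1 := by
      calc _ = g * (u * u) * g⁻¹ := by group
        _ = 1 := by rw [hu2]; group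
    have hord : orderOf (g * u * g⁻¹) = 2 := by rw [orderOf_conj_eq, hu]
    generalize g * u * g⁻¹ = r at *
    generalize k * u * k⁻¹ = w at *
    -- `r` inverts `x`
    have hwr : w * (x : G) = r := by
      calc w * (x : G) = r * (r * (w * x)) := by rw [← mul_assoc, hg2, one_mul]
        _ = r := by rw [e, mul_one]
    have hinv : r * (x : G) * r⁻¹ = (x : G)⁻¹ := by
      rw [inv_eq_of_mul_eq_one_right hg2]
      refine eq_inv_of_mul_eq_one_left ?_
      calc r * (x : G) * r * x = r * ((x : G) * r * x) := by group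
        _ = r * ((x : G) * (w * x) * x) := by rw [hwr]
        _ = r * (w⁻¹ * ((w * x) * (w * x)) * x) := by group
        _ = r * (w * x) := by
          rw [show (w * (x : G)) * (w * x) = 1 by rw [hwr, hg2], mul_one,
            inv_eq_of_mul_eq_one_right hk2]
        _ = 1 := e
    have hrN : r ∈ normalizer ((P : Subgroup G) : Set G) := by
      have hmap : (P : Subgroup G).map (MulAut.conj r).toMonoidHom = P := by
        have hz := zpowers_eq_of_prime_card (p := 13) (by norm_num) K.cardP x.2 hx1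
        rw [← hz, MonoidHom.map_zpowers]
        show zpowers (r * (x : G) * r⁻¹) = _
        rw [hinv, zpowers_inv]
      refine mem_normalizer_iff.2 fun y => ⟨fun hy => ?_, fun hy => ?_⟩
      · rw [← hmap]; exact mem_map_of_mem _ hy
      · rw [← hmap] at hy
        obtain ⟨w', hw', hwy⟩ := hy
        exact (mul_left_cancel (mul_right_cancel (hwy : r * w' * r⁻¹ = r * y * r⁻¹))) ▸ hw'
    have hd := Subgroup.orderOf_dvd_natCard _ hrN
    rw [hord, K.cardN] at hd
    norm_num at hd
  have hsum := CfsgLib.CharDegree.sum_three (G := G) u u (x : G)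
  rw [hzero, Nat.cast_zero, mul_eq_zero] at hsum
  have hsum' := hsum.resolve_left (Nat.cast_ne_zero.2 Nat.card_pos.ne')
  rw [← Finset.sum_subset (Finset.subset_univ (insert (trivChar G) (insert A (insert B Y))))
    (fun χ _ hχ => by
      simp only [Finset.mem_insert, not_or] at hχ
      rw [K.rest χ hχ.1 hχ.2.1 hχ.2.2.1 hχ.2.2.2 x x.2 hx1, mul_zero, zero_div]),
    sum_block K, Finset.sum_eq_zero (fun θ hθ => by
      rw [vanish_two K hθ (by rw [hu]), zero_mul, zero_mul, zero_div]),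
    K.valA x x.2 hx1, K.valB x x.2 hx1, trivChar_apply, trivChar_apply, trivChar_apply, ha, hb,
    apply_one_eq_charDegree, apply_one_eq_charDegree, K.degA, K.degB] at hsum'
  rw [hab] at hsum'
  push_cast at hsum'
  have h' : (((a - 4) * (5 * a + 28) : ℤ) : ℂ) = ((0 : ℤ) : ℂ) := by
    push_cast
    linear_combination (-108 : ℂ) * hsum'
  have h'' : (a - 4) * (5 * a + 28) = 0 := by exact_mod_cast h'
  have ha4 : a = 4 := by
    rcases mul_eq_zero.1 h'' with e | e <;> omega
  subst ha4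
  exact ⟨by rw [ha]; norm_num, by rw [hb, hab]; norm_num⟩

/-- Column orthogonality split at the block. -/
theorem column [Fintype (IrrCharacter G)] (g k : G) [Decidable (IsConj g k)] :
    (if IsConj g k then (Nat.card (centralizer ({g} : Set G)) : ℂ) else 0) =
      (1 + ((A : G → ℂ) g * conj ((A : G → ℂ) k) + ((B : G → ℂ) g * conj ((B : G → ℂ) k) +
        ∑ θ ∈ Y, (θ : G → ℂ) g * conj ((θ : G → ℂ) k)))) +
      ∑ χ ∈ Finset.univ \ insert (trivChar G) (insert A (insert B Y)),
        (χ : G → ℂ) g * conj ((χ : G → ℂ) k) := by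
  rw [← column_orthogonality g k, ← Finset.sum_sdiff (Finset.subset_univ
    (insert (trivChar G) (insert A (insert B Y)))), sum_block K, trivChar_apply, trivChar_apply,
    map_one, one_mul, add_comm]

/-- Every involution centralizer has order 48. -/
theorem card_centralizer {u : G} (hu : orderOf u = 2) :
    Nat.card (centralizer ({u} : Set G)) = 48 := by
  haveI := Fintype.ofFinite (IrrCharacter G)
  haveI : Fact (Nat.Prime 13) := ⟨by norm_num⟩
  obtain ⟨ha, hb⟩ := values_involution K hu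
  set C := centralizer ({u} : Set G) with hC
  have h26 : 26 ≤ Nat.card C := by
    have hcol := column K u u
    rw [if_pos (IsConj.refl u), ha, hb, Finset.sum_eq_zero (fun θ hθ => by
      rw [vanish_two K hθ (by rw [hu]), zero_mul])] at hcol
    have hre := congrArg Complex.re hcol
    rw [Complex.natCast_re, Complex.add_re, Complex.re_sum] at hre
    have hnn : 0 ≤ ∑ χ ∈ Finset.univ \ insert (trivChar G) (insert A (insert B Y)),
        ((χ : G → ℂ) u * conj ((χ : G → ℂ) u)).re :=
      Finset.sum_nonneg fun χ _ => by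
        rw [Complex.mul_conj, Complex.ofReal_re]; exact Complex.normSq_nonneg _
    rw [show Complex.re (1 + (4 * conj (4 : ℂ) + (3 * conj (3 : ℂ) + 0))) = 26 by
      norm_num [Complex.add_re, map_ofNat]] at hre
    have : (26 : ℝ) ≤ (Nat.card C : ℝ) := by linarith
    exact_mod_cast this
  have h13 : ¬ 13 ∣ Nat.card C := by
    intro h13
    obtain ⟨z, hz⟩ := exists_prime_orderOf_dvd_card' (G := C) 13 h13
    have hzo : orderOf (z : G) = 13 := by rw [Subgroup.orderOf_coe, hz]
    have hcom : Commute (z : G) u := mem_centralizer_singleton_iff.1 z.2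
    have ho : orderOf ((z : G) * u) = 26 := by
      rw [hcom.orderOf_mul_eq_mul_orderOf_of_coprime (by rw [hzo, hu]; norm_num), hzo, hu]
    exact thirteen_not_dvd K (g := (z : G) * u) (q := 2) (by rw [ho]; norm_num) (by norm_num)
      (by norm_num) (by rw [ho]; norm_num)
  have hb3 : (B : G → ℂ) u = ((3 : ℤ) : ℂ) := by rw [hb]; norm_num
  have h9 := ThreePrimeOrder.dvd_class_mul hb3
  rw [K.degB] at h9
  have hmul := C.card_mul_index
  rw [K.order] at hmul
  have key : ∀ c ∈ Nat.divisors 5616, c % 13 ≠ 0 → 26 ≤ c → (5616 / c * 3) % 27 = 0 → c = 48 := by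
    decide +kernel
  refine key _ (Nat.mem_divisors.2 ⟨⟨_, hmul.symm⟩, by norm_num⟩) (fun e => h13 (Nat.dvd_of_mod_eq_zero e))
    h26 ?_
  rw [show 5616 / Nat.card C = C.index by rw [← hmul, Nat.mul_div_cancel_left _ Nat.card_pos]]
  exact Nat.mod_eq_zero_of_dvd (by simpa using h9)

/-- All involutions are conjugate. -/
theorem isConj_of_involutions {u s : G} (hu : orderOf u = 2) (hs : orderOf s = 2) : IsConj u s := by
  haveI := Fintype.ofFinite (IrrCharacter G)
  by_contra hne
  obtain ⟨hau, hbu⟩ := values_involution K hu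
  obtain ⟨has, hbs⟩ := values_involution K hs
  set R := Finset.univ \ insert (trivChar G) (insert A (insert B Y)) with hR
  have hY0 : ∀ (g k : G), orderOf g = 2 → ∑ θ ∈ Y, (θ : G → ℂ) g * conj ((θ : G → ℂ) k) = 0 :=
    fun g k hg => Finset.sum_eq_zero fun θ hθ => by rw [vanish_two K hθ (by rw [hg]), zero_mul]
  have e1 := column K u u
  have e2 := column K s s
  have e3 := column K u s
  have e4 := column K s u
  rw [if_pos (IsConj.refl u), card_centralizer K hu, hau, hbu, hY0 u u hu] at e1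
  rw [if_pos (IsConj.refl s), card_centralizer K hs, has, hbs, hY0 s s hs] at e2
  rw [if_neg hne, hau, hbu, has, hbs, hY0 u s hu] at e3
  rw [if_neg (fun h => hne h.symm), hau, hbu, has, hbs, hY0 s u hs] at e4
  have key : ∑ χ ∈ R, ((χ : G → ℂ) u + (χ : G → ℂ) s) * conj ((χ : G → ℂ) u + (χ : G → ℂ) s) =
      ((-8 : ℝ) : ℂ) := by
    simp only [map_add, add_mul, mul_add, Finset.sum_add_distrib]
    simp only [map_ofNat] at e1 e2 e3 e4
    push_cast at e1 e2
    push_cast
    linear_combination -e1 - e2 - e3 - e4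
  have hre := congrArg Complex.re key
  rw [Complex.re_sum, Complex.ofReal_re] at hre
  have hnn : 0 ≤ ∑ χ ∈ R, (((χ : G → ℂ) u + (χ : G → ℂ) s) * conj ((χ : G → ℂ) u + (χ : G → ℂ) s)).re :=
    Finset.sum_nonneg fun χ _ => by
      rw [Complex.mul_conj, Complex.ofReal_re]; exact Complex.normSq_nonneg _
  linarith

omit [IsSimpleGroup G] in
/-- An element of order six has centralizer order dividing 468. -/
theorem card_centralizer_six_dvd {g : G} (h13 : ¬ 13 ∣ orderOf g) (h2 : 2 ∣ orderOf g)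
    (h3 : 3 ∣ orderOf g) : Nat.card (centralizer ({g} : Set G)) ∣ 468 := by
  obtain ⟨θ, hθ⟩ : Y.Nonempty := Finset.card_pos.1 (by rw [K.cardY]; norm_num)
  have ha : (A : G → ℂ) g = ((1 : ℤ) : ℂ) := by
    have := K.rel θ hθ g h13
    rw [vanish_two K hθ h2, vanish_three K h3] at this
    push_cast
    linear_combination this
  obtain ⟨j, hj⟩ := ThreePrimeOrder.dvd_class_mul ha
  rw [K.degA, show (1 : ℤ).natAbs = 1 from rfl, mul_one] at hj
  have hmul := (centralizer ({g} : Set G)).card_mul_index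
  rw [K.order, hj] at hmul
  exact ⟨j, by linarith⟩

/-- An element of order three whose centralizer has `2`-part four is conjugate to its inverse. -/
theorem isConj_inv {v : G} (hv : orderOf v = 3) {m : ℕ}
    (hC : Nat.card (centralizer ({v} : Set G)) = 4 * m) (hm : ¬ 2 ∣ m) : IsConj v v⁻¹ := by
  haveI := Fintype.ofFinite (IrrCharacter G)
  haveI : Fact (Nat.Prime 13) := ⟨by norm_num⟩
  obtain ⟨θ, hθ⟩ : Y.Nonempty := Finset.card_pos.1 (by rw [K.cardY]; norm_num)
  have hv13 : ¬ 13 ∣ orderOf v := by rw [hv]; norm_num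
  -- an integer value divisible by three
  obtain ⟨a, ha, ha3⟩ : ∃ a : ℤ, (A : G → ℂ) v = a ∧ (3 : ℤ) ∣ a := by
    obtain ⟨k, ρ, -, hρ⟩ := A.2
    obtain ⟨ε, hε, -, hpow, -⟩ := exists_eigenvalues ρ v
    have h1 := hpow 1
    simp only [pow_one] at h1
    rw [hρ] at h1
    have h0 : ((12 : ℕ) : ℂ) = ∑ _i : Fin (Module.finrank ℂ (Fin k → ℂ)), (1 : ℂ) := by
      have h := hpow 0
      simp only [pow_zero] at h
      rw [hρ, apply_one_eq_charDegree, K.degA] at h
      exact h
    rw [Finset.sum_const, Finset.card_univ, Fintype.card_fin, nsmul_eq_mul, mul_one] at h0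
    have hk : Module.finrank ℂ (Fin k → ℂ) = 12 := by exact_mod_cast h0.symm
    -- each real part is `1` or `-1/2`
    have hre : ∀ i, (ε i).re = if ε i = 1 then 1 else -(1 / 2 : ℝ) := fun i => by
      have h3 : ε i ^ 3 = 1 := hv ▸ hε i
      split_ifs with h
      · rw [h]; simp
      have hq : ε i ^ 2 + ε i + 1 = 0 := by
        rcases mul_eq_zero.1 (show (ε i - 1) * (ε i ^ 2 + ε i + 1) = 0 by linear_combination h3) with e | e
        · exact absurd (sub_eq_zero.1 e) h
        · exact e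
      have hr := congrArg Complex.re hq
      have hi := congrArg Complex.im hq
      simp only [pow_two, Complex.add_re, Complex.mul_re, Complex.one_re, Complex.zero_re,
        Complex.add_im, Complex.mul_im, Complex.one_im, Complex.zero_im, add_zero] at hr hi
      rcases mul_eq_zero.1 (show (ε i).im * (2 * (ε i).re + 1) = 0 by linarith) with e | e
      · exfalso; rw [e] at hr; nlinarith [sq_nonneg ((ε i).re + 1 / 2)]
      · linarith
    set n1 := (Finset.univ.filter fun i => ε i = 1).card with hn1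
    have hn2 : (n1 : ℝ) + (Finset.univ.filter fun i => ¬ ε i = 1).card = 12 := by
      have := Finset.card_filter_add_card_filter_not (s := Finset.univ) (fun i => ε i = 1)
      rw [Finset.card_univ, Fintype.card_fin] at this
      have := this.trans hk
      exact_mod_cast this
    have hreal : ((A : G → ℂ) v).re = 3 / 2 * (n1 : ℝ) - 6 := by
      rw [h1, Complex.re_sum, Finset.sum_congr rfl (fun i _ => hre i), Finset.sum_ite,
        Finset.sum_const, Finset.sum_const, nsmul_eq_mul, nsmul_eq_mul, ← hn1]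
      linarith
    have him : ((A : G → ℂ) v).im = 0 := Complex.conj_eq_iff_im.mp (A_real K v)
    -- a rational algebraic integer is an integer
    have heven : 2 ∣ n1 := by
      by_contra hodd
      obtain ⟨l, hl⟩ := (Nat.odd_iff.2 (Nat.two_dvd_ne_zero.1 hodd) : Odd n1)
      have hint : IsIntegral ℤ ((A : G → ℂ) v) := by
        rw [h1]
        exact IsIntegral.sum _ fun i _ => IsIntegral.of_pow (n := 3) (by norm_num)
          (by rw [← hv, hε i]; exact isIntegral_one)
      have hval : (A : G → ℂ) v = (((3 * (l : ℤ) - 6) : ℤ) : ℂ) + (((3 : ℕ) : ℂ) / ((2 : ℕ) : ℂ)) := by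
        apply Complex.ext
        · rw [hreal, hl]; simp; ring
        · rw [him]; simp
      have h32 : IsIntegral ℤ (((3 : ℕ) : ℂ) / ((2 : ℕ) : ℂ)) := by
        have := hint.sub (isIntegral_algebraMap (x := (3 * (l : ℤ) - 6)))
        rw [hval] at this
        simpa using this
      have := CfsgLib.CharIntegral.dvd_of_isIntegral_div (by norm_num) h32
      norm_num at this
    obtain ⟨l, hl⟩ := heven
    refine ⟨3 * (l : ℤ) - 6, ?_, ⟨(l : ℤ) - 2, by ring⟩⟩
    apply Complex.ext
    · rw [hreal, hl]; simp; ring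
    · rw [him]; simp
  have hθv : (θ : G → ℂ) v = ((1 - a : ℤ) : ℂ) := by
    rw [K.rel θ hθ v hv13, vanish_three K (by rw [hv]), ha]
    push_cast; ring
  obtain ⟨j, hj⟩ := ThreePrimeOrder.dvd_class_mul hθv
  rw [K.degY θ hθ] at hj
  set c := Nat.card (centralizer ({v} : Set G)) with hc
  have hmul := (centralizer ({v} : Set G)).card_mul_index
  rw [K.order, ← hc, hC] at hmul
  -- the class has `2`-part four
  have h4a : (4 : ℤ) ∣ 1 - a := by
    have h1 : m * (centralizer ({v} : Set G)).index = 1404 := by linarith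
    have h2 : 1404 * (1 - a).natAbs = m * 16 * j := by
      rw [← h1, mul_assoc, hj, mul_assoc]
    have hm' : Nat.Coprime 4 m := by
      rw [show (4 : ℕ) = 2 ^ 2 by norm_num]
      exact (Nat.prime_two.coprime_iff_not_dvd.2 hm).pow_left 2
    have h3 : 351 * (1 - a).natAbs = 4 * (m * j) := by linarith
    have h4 : 4 ∣ (1 - a).natAbs :=
      (show Nat.Coprime 4 351 by norm_num).dvd_of_dvd_mul_left ⟨m * j, h3⟩
    exact Int.ofNat_dvd_left.2 h4
  have hc13 : ¬ 13 ∣ c := by
    intro h13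
    obtain ⟨z, hz⟩ := exists_prime_orderOf_dvd_card' (G := centralizer ({v} : Set G)) 13 h13
    have hzo : orderOf (z : G) = 13 := by rw [Subgroup.orderOf_coe, hz]
    have hcom : Commute (z : G) v := mem_centralizer_singleton_iff.1 z.2
    have ho : orderOf ((z : G) * v) = 39 := by
      rw [hcom.orderOf_mul_eq_mul_orderOf_of_coprime (by rw [hzo, hv]; norm_num), hzo, hv]
    exact thirteen_not_dvd K (g := (z : G) * v) (q := 3) (by rw [ho]; norm_num) (by norm_num)
      (by norm_num) (by rw [ho]; norm_num)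
  have hm108 : m ≤ 27 := by
    have hd : m ∣ 4 * 351 := ⟨(centralizer ({v} : Set G)).index, by linarith⟩
    have h13 : ¬ 13 ∣ m := fun e => hc13 (hC ▸ e.mul_left 4)
    have key : ∀ k ∈ Nat.divisors 1404, k % 2 ≠ 0 → k % 13 ≠ 0 → k ≤ 27 := by decide +kernel
    exact key _ (Nat.mem_divisors.2 ⟨hd, by norm_num⟩) (fun e => hm (Nat.dvd_of_mod_eq_zero e))
      (fun e => h13 (Nat.dvd_of_mod_eq_zero e))
  by_contra hne
  have e1 := column K v v
  have e2 := column K v v⁻¹
  rw [if_pos (IsConj.refl v), ← hc] at e1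
  rw [if_neg hne] at e2
  have hinvA : (A : G → ℂ) v⁻¹ = (a : ℂ) := by
    rw [IsIrr.map_inv A.2, A_real K v, ha]
  have hB0 : (B : G → ℂ) v = 0 ∧ (B : G → ℂ) v⁻¹ = 0 :=
    ⟨vanish_three K (by rw [hv]), vanish_three K (by rw [orderOf_inv, hv])⟩
  have hYs : ∀ θ ∈ Y, (θ : G → ℂ) v = 1 - (a : ℂ) ∧ (θ : G → ℂ) v⁻¹ = 1 - (a : ℂ) := fun ψ hψ => by
    constructor
    · rw [K.rel ψ hψ v hv13, hB0.1, ha]; ring
    · rw [K.rel ψ hψ v⁻¹ (by rw [orderOf_inv]; exact hv13), hB0.2, hinvA]; ring
  have hconja : conj (a : ℂ) = (a : ℂ) := map_intCast _ a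
  rw [ha, hconja, hB0.1, zero_mul, Finset.sum_congr rfl (g := fun _ => (1 - (a : ℂ)) * (1 - (a : ℂ)))
    (fun ψ hψ => by rw [(hYs ψ hψ).1, map_sub, map_one, hconja]), Finset.sum_const, K.cardY,
    nsmul_eq_mul] at e1
  rw [ha, hinvA, hconja, hB0.1, zero_mul, Finset.sum_congr rfl (g := fun _ => (1 - (a : ℂ)) * (1 - (a : ℂ)))
    (fun ψ hψ => by rw [(hYs ψ hψ).1, (hYs ψ hψ).2, map_sub, map_one, hconja]), Finset.sum_const,
    K.cardY, nsmul_eq_mul] at e2
  set R := Finset.univ \ insert (trivChar G) (insert A (insert B Y))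
  have h1 := congrArg Complex.re e1
  have h2 := congrArg Complex.re e2
  simp only [Complex.natCast_re, Complex.zero_re, Complex.add_re, Complex.re_sum, Complex.mul_re,
    Complex.intCast_re, Complex.intCast_im, Complex.sub_re, Complex.sub_im, Complex.one_re,
    Complex.one_im, Nat.cast_ofNat, Complex.re_ofNat, Complex.im_ofNat] at h1 h2
  have hle : ∀ χ ∈ R, -(((χ : G → ℂ) v).re * ((conj ((χ : G → ℂ) v)).re) -
      ((χ : G → ℂ) v).im * (conj ((χ : G → ℂ) v)).im) ≤
      ((χ : G → ℂ) v).re * ((conj ((χ : G → ℂ) v⁻¹)).re) -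
      ((χ : G → ℂ) v).im * (conj ((χ : G → ℂ) v⁻¹)).im := fun χ _ => by
    rw [IsIrr.map_inv χ.2, Complex.conj_conj, Complex.conj_re, Complex.conj_im]
    nlinarith [sq_nonneg ((χ : G → ℂ) v).re, sq_nonneg ((χ : G → ℂ) v).im]
  have h3 := Finset.sum_le_sum hle
  rw [Finset.sum_neg_distrib] at h3
  have hcm : (c : ℝ) ≤ 108 := by
    have : c ≤ 108 := by omega
    exact_mod_cast this
  obtain ⟨q, hq⟩ := ha3
  obtain ⟨w, hw⟩ := h4a
  have hbig : a ≤ -3 ∨ 9 ≤ a := by omega
  have haR : (a : ℝ) ≤ -3 ∨ (9 : ℝ) ≤ (a : ℝ) := by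
    rcases hbig with e | e
    · left; exact_mod_cast e
    · right; exact_mod_cast e
  rcases haR with e | e <;> nlinarith

end CfsgLib.Recog.LThreeThree5616
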